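import Groth.Agent.Etdl.H157.Split
import Groth.Agent.Divis.CartierData
import Mathlib.AlgebraicGeometry.ZariskisMainTheorem

/-!
# Locally principal closed subschemes of relative curves

* `EqnOn I O A`: `A` generates the ideal sheaf `I` on the affine opens of `O`.
* `exists_glue`: gluing of ideal sheaves from local equations.
* `flat_lfp`: on a smooth relative curve a locally principal closed subscheme which is locally quasi-finite
  over the base is flat and locally of finite presentation over the base.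
* `exists_split_open`: splitting for a locally principal closed subscheme, with finite fibres, of the open
  smooth part of a proper `W ⟶ T`.
-/

set_option autoImplicit false
universe u

open CategoryTheory CategoryTheory.Limits AlgebraicGeometry

namespace Groth.Agent.Etdl.H157.Div

open Groth.Agent.Picfga.SecGraph Groth.Agent.Picfga.HilbPull Groth.Agent.Divis.IdealComap
open Groth.Agent.Etdl.H157.Split

section Eqn

variable {W W' : Scheme.{u}}

/-- Restriction of functions. -/
abbrev res {Z : Scheme.{u}} {U V : Z.Opens} (h : U ≤ V) : Γ(Z, V) →+* Γ(Z, U) :=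
  (Z.presheaf.map (homOfLE h).op).hom

/-- `A` is an equation of the ideal sheaf `I` on the open `O`. -/
def EqnOn (I : W.IdealSheafData) (O : W.Opens) (A : Γ(W, O)) : Prop :=
  ∀ (U : W.affineOpens) (hU : U.1 ≤ O), I.ideal U = Ideal.span {res hU A}

/-- `I` is locally principal. -/
def LocPrin (I : W.IdealSheafData) : Prop :=
  ∀ x : W, ∃ (U : W.affineOpens) (_ : x ∈ U.1) (h : Γ(W, U.1)), I.ideal U = Ideal.span {h}

lemma res_res {U V O : W.Opens} (h : U ≤ V) (h' : V ≤ O) (A : Γ(W, O)) :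
    res h (res h' A) = res (h.trans h') A := by
  simp only [res]
  rw [← CommRingCat.comp_apply, ← Functor.map_comp]
  rfl

lemma EqnOn.res {I : W.IdealSheafData} {O O' : W.Opens} {A : Γ(W, O)} (h : EqnOn I O A) (hO : O' ≤ O) :
    EqnOn I O' (Div.res hO A) := by
  intro U hU
  rw [h U (hU.trans hO), res_res]

/-- It suffices to check an equation on an affine open cover. -/
lemma EqnOn.of_local {I : W.IdealSheafData} {O : W.Opens} {A : Γ(W, O)}
    (h : ∀ x ∈ O, ∃ (U : W.affineOpens) (_ : x ∈ U.1) (hU : U.1 ≤ O), I.ideal U = Ideal.span {Div.res hU A}) :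
    EqnOn I O A := by
  intro V hV
  have haff : IsAffine V.1.toScheme := V.2
  let a : Γ(V.1.toScheme, ⊤) := (V.1.ι.appLE V.1 ⊤ V.1.ι_preimage_self.ge).hom (Div.res hV A)
  have h0 : ((V.1.toScheme).presheaf.map (homOfLE (le_top : (⊤ : V.1.toScheme.Opens) ≤ ⊤)).op).hom =
      RingHom.id _ :=
    congrArg CommRingCat.Hom.hom (V.1.toScheme.presheaf.map_id _)
  have key : I.comap V.1.ι = Scheme.IdealSheafData.ofIdealTop (Ideal.span {a}) := by
    refine ext_of_forall_mem fun z => ?_
    obtain ⟨U, hxU, hU, hI⟩ := h (V.1.ι z) (hV z.2)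
    obtain ⟨V', hV', hzV', hle⟩ := exists_isAffineOpen_mem_and_subset (U := V.1.ι ⁻¹ᵁ U.1) (x := z) hxU
    refine ⟨⟨V', hV'⟩, hzV', ?_⟩
    rw [ideal_comap I V.1.ι U ⟨V', hV'⟩ hle, hI, Scheme.IdealSheafData.ofIdealTop_ideal, Ideal.map_span,
      Ideal.map_span, Set.image_singleton, Set.image_singleton]
    congr 2
    change _ = (V.1.ι.appLE V.1 ⊤ V.1.ι_preimage_self.ge ≫
      V.1.toScheme.presheaf.map (homOfLE le_top).op).hom (Div.res hV A)
    rw [Scheme.Hom.appLE_map]
    simp only [Div.res]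
    rw [← CommRingCat.comp_apply, ← CommRingCat.comp_apply, Scheme.Hom.map_appLE, Scheme.Hom.map_appLE]
  have h1 := ideal_comap I V.1.ι V ⟨⊤, isAffineOpen_top _⟩ V.1.ι_preimage_self.ge
  rw [key, Scheme.IdealSheafData.ofIdealTop_ideal] at h1
  have h2 : Ideal.map ((V.1.toScheme).presheaf.map
      (homOfLE (le_top : (⊤ : V.1.toScheme.Opens) ≤ ⊤)).op).hom (Ideal.span {a}) = Ideal.span {a} := by
    rw [h0, Ideal.map_id]
  have : IsIso (V.1.ι.appLE V.1 ⊤ V.1.ι_preimage_self.ge) := Divis.CartierData.isIso_appLE_ι V.1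
  apply map_injective_of_isIso (V.1.ι.appLE V.1 ⊤ V.1.ι_preimage_self.ge)
  refine h1.symm.trans (h2.trans ?_)
  rw [Ideal.map_span, Set.image_singleton]

lemma EqnOn.locPrin {I : W.IdealSheafData} {ι : Type*} {O : ι → W.Opens} {A : ∀ a, Γ(W, O a)}
    (hO : ∀ x, ∃ a, x ∈ O a) (h : ∀ a, EqnOn I (O a) (A a)) : LocPrin I := by
  intro x
  obtain ⟨a, ha⟩ := hO x
  obtain ⟨U, hU, hxU, hUO⟩ := exists_isAffineOpen_mem_and_subset (U := O a) (x := x) ha
  exact ⟨⟨U, hU⟩, hxU, _, h a ⟨U, hU⟩ hUO⟩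

/-- Base change of an equation. -/
lemma EqnOn.comap {I : W.IdealSheafData} {O : W.Opens} {A : Γ(W, O)} (h : EqnOn I O A)
    (q : W' ⟶ W) : EqnOn (I.comap q) (q ⁻¹ᵁ O) ((q.app O).hom A) := by
  refine EqnOn.of_local fun x hx => ?_
  obtain ⟨U, V, -, hxV, hVO, hUO, e⟩ := exists_affine_le q x (q ⁻¹ᵁ O) hx O hx
  refine ⟨V, hxV, hVO, ?_⟩
  rw [ideal_comap I q U V e, h U hUO, Ideal.map_span, Set.image_singleton]
  congr 2
  simp only [Div.res]
  rw [← CommRingCat.comp_apply, ← CommRingCat.comp_apply, Scheme.Hom.map_appLE, Scheme.Hom.app_eq_appLE,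
    Scheme.Hom.appLE_map]

lemma LocPrin.comap {I : W.IdealSheafData} (h : LocPrin I) (q : W' ⟶ W) : LocPrin (I.comap q) := by
  intro x
  obtain ⟨U, hxU, a, ha⟩ := h (q x)
  obtain ⟨V, hV, hxV, hle⟩ := exists_isAffineOpen_mem_and_subset (U := q ⁻¹ᵁ U.1) (x := x) hxU
  refine ⟨⟨V, hV⟩, hxV, (q.appLE U.1 V hle).hom a, ?_⟩
  rw [ideal_comap I q U ⟨V, hV⟩ hle, ha, Ideal.map_span, Set.image_singleton]

/-- gluing of ideal sheaves from local equations -/
theorem exists_glue {ι : Type u} (O : ι → W.Opens) (hO : ∀ x, ∃ a, x ∈ O a) (A : ∀ a, Γ(W, O a))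
    (h : ∀ (a b : ι) (U : W.affineOpens) (ha : U.1 ≤ O a) (hb : U.1 ≤ O b),
      Ideal.span {res ha (A a)} = Ideal.span {res hb (A b)}) :
    ∃ I : W.IdealSheafData, ∀ a, EqnOn I (O a) (A a) := by
  let κ := {p : ι × W.affineOpens // p.2.1 ≤ O p.1}
  have hcov : ∀ (a : ι) (x : W), x ∈ O a → ∃ U : W.affineOpens, x ∈ U.1 ∧ U.1 ≤ O a := by
    intro a x hx
    obtain ⟨U, hU, hxU, hUO⟩ := exists_isAffineOpen_mem_and_subset (U := O a) (x := x) hx
    exact ⟨⟨U, hU⟩, hxU, hUO⟩
  obtain ⟨D, hD⟩ := Divis.CartierData.exists_ideal (X := W) (ι := κ) (fun p => p.1.2) (by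
      refine top_le_iff.mp fun x _ => ?_
      obtain ⟨a, ha⟩ := hO x
      obtain ⟨U, hxU, hU⟩ := hcov a x ha
      exact TopologicalSpace.Opens.mem_iSup.mpr ⟨⟨(a, U), hU⟩, hxU⟩)
    (fun p => Div.res p.2 (A p.1.1)) (by
      intro p q V hp hq
      have h1 := h p.1.1 q.1.1 V (hp.trans p.2) (hq.trans q.2)
      have e1 := res_res hp p.2 (A p.1.1)
      have e2 := res_res hq q.2 (A q.1.1)
      rw [← e1, ← e2] at h1
      exact h1)
  refine ⟨D, fun a => EqnOn.of_local fun x hx => ?_⟩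
  obtain ⟨U, hxU, hU⟩ := hcov a x hx
  refine ⟨U, hxU, hU, ?_⟩
  have h1 := hD ⟨(a, U), hU⟩ U le_rfl
  have e1 := res_res (le_refl U.1) hU (A a)
  rw [← e1]
  exact h1

end Eqn

section FlatLfp

variable {X S : Scheme.{u}} (f : X ⟶ S) [SmoothOfRelativeDimension 1 f]

open Groth.Agent.Picfga.CurveChart Groth.Agent.Picfga.CurveRing

theorem flat_lfp (I : X.IdealSheafData) (hI : LocPrin I)
    (hqf : LocallyQuasiFinite (I.subschemeι ≫ f)) :
    Flat (I.subschemeι ≫ f) ∧ LocallyOfFinitePresentation (I.subschemeι ≫ f) := by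
  have hsm : Smooth f := SmoothOfRelativeDimension.smooth 1 f
  have hloc : ∀ x : X, ∃ (U : S.affineOpens) (V : X.affineOpens) (_ : x ∈ V.1) (e : V.1 ≤ f ⁻¹ᵁ U.1),
      ((Ideal.Quotient.mk (I.ideal V)).comp (f.appLE U.1 V.1 e).hom).Flat ∧
      ((Ideal.Quotient.mk (I.ideal V)).comp (f.appLE U.1 V.1 e).hom).FinitePresentation := by
    intro x
    obtain ⟨W, hxW, h, hIW⟩ := hI x
    obtain ⟨U, V, hx, hVW, e, g, hg, hge⟩ := exists_chart f x W.1 hxW
    have hVW' : V ≤ W := hVW
    have hIV := S1184.ideal_eq_span_of_le I hVW' h hIW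
    refine ⟨U, V, hx, e, ?_, ?_⟩
    · have hqf' := ringHom_of (P := @LocallyQuasiFinite) f I hqf U V e
      rw [hIV] at hqf' ⊢
      exact flat_of _ g hg hge (f.smooth_appLE U.2 V.2 e) _ hqf'
    · have h1 : ((f.appLE U.1 V.1 e).hom).FinitePresentation :=
        (f.smooth_appLE U.2 V.2 e).finitePresentation
      refine RingHom.FinitePresentation.comp ?_ h1
      refine RingHom.FinitePresentation.of_surjective _ Ideal.Quotient.mk_surjective ?_
      rw [Ideal.mk_ker, hIV]
      exact Submodule.fg_span_singleton _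
  constructor
  · refine of_ringHom (P := @Flat) f I ?_ (fun x => ?_)
    · exact (RingHom.Flat.stableUnderComposition.stableUnderCompositionWithLocalizationAway
        RingHom.Flat.holdsForLocalizationAway).1
    · obtain ⟨U, V, hx, e, h1, h2⟩ := hloc x
      exact ⟨U, V, hx, e, h1⟩
  · refine of_ringHom (P := @LocallyOfFinitePresentation) f I ?_ (fun x => ?_)
    · exact (RingHom.finitePresentation_stableUnderComposition.stableUnderCompositionWithLocalizationAway
        RingHom.finitePresentation_holdsForLocalizationAway).1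
    · obtain ⟨U, V, hx, e, h1, h2⟩ := hloc x
      exact ⟨U, V, hx, e, h2⟩

end FlatLfp

section Support

variable {W W₀ : Scheme.{u}} (jj : W₀ ⟶ W) [IsOpenImmersion jj]

lemma ideal_eq_top_of_disjoint (I : W.IdealSheafData) (U : W.affineOpens)
    (h : ∀ x ∈ U.1, x ∉ I.support) : I.ideal U = ⊤ := by
  have h0 : W.zeroLocus (U := U.1) (I.ideal U) ∩ U = ∅ := by
    rw [← I.coe_support_inter U]
    ext x
    simp only [Set.mem_inter_iff, SetLike.mem_coe, Set.mem_empty_iff_false, iff_false, not_and']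
    exact fun hx => h x hx
  have h1 := U.2.fromSpec_image_zeroLocus (I.ideal U)
  rw [h0, Set.image_eq_empty] at h1
  exact PrimeSpectrum.zeroLocus_empty_iff_eq_top.mp h1

lemma mem_support_prod {ι : Type*} (s : Finset ι) (I : ι → W.IdealSheafData) (x : W) :
    x ∈ (∏ i ∈ s, I i).support ↔ ∃ i ∈ s, x ∈ (I i).support := by
  classical
  induction s using Finset.induction_on with
  | empty =>
    simp only [Finset.prod_empty, Scheme.IdealSheafData.one_eq_top, Scheme.IdealSheafData.support_top,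
      Finset.notMem_empty, false_and, exists_false, iff_false]
    exact fun h => h
  | insert a s ha ih =>
    rw [Finset.prod_insert ha, Scheme.IdealSheafData.support_mul]
    constructor
    · rintro (h | h)
      · exact ⟨a, Finset.mem_insert_self _ _, h⟩
      · obtain ⟨i, hi, hx⟩ := ih.mp h
        exact ⟨i, Finset.mem_insert_of_mem hi, hx⟩
    · rintro ⟨i, hi, hx⟩
      obtain rfl | hi := Finset.mem_insert.mp hi
      · exact Or.inl hx
      · exact Or.inr (ih.mpr ⟨i, hi, hx⟩)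

lemma mem_support_ker {Z : Scheme.{u}} (a : Z ⟶ W) [IsClosedImmersion a] (x : W) :
    x ∈ a.ker.support ↔ x ∈ Set.range a := by
  have h : (a.ker.support : Set W) = Set.range a := by
    rw [Scheme.Hom.support_ker]
    exact a.isClosedEmbedding.isClosed_range.closure_eq
  rw [← h]; rfl

/-- Two ideal sheaves with support in an open subscheme agree if their restrictions do. -/
lemma eq_of_comap_eq {I₁ I₂ : W.IdealSheafData} (h₁ : (I₁.support : Set W) ⊆ Set.range jj)
    (h₂ : (I₂.support : Set W) ⊆ Set.range jj) (h : I₁.comap jj = I₂.comap jj) : I₁ = I₂ := by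
  refine ext_of_forall_mem fun x => ?_
  by_cases hx : x ∈ Set.range jj
  · obtain ⟨w, rfl⟩ := hx
    obtain ⟨V, hV, hwV, -⟩ := exists_isAffineOpen_mem_and_subset (U := (⊤ : W₀.Opens)) (x := w) trivial
    refine ⟨⟨jj ''ᵁ V, hV.image_of_isOpenImmersion jj⟩, ⟨w, hwV, rfl⟩, ?_⟩
    have e : V ≤ jj ⁻¹ᵁ (jj ''ᵁ V) := (jj.preimage_image_eq V).ge
    have h1 := ideal_comap I₁ jj ⟨jj ''ᵁ V, hV.image_of_isOpenImmersion jj⟩ ⟨V, hV⟩ e
    have h2 := ideal_comap I₂ jj ⟨jj ''ᵁ V, hV.image_of_isOpenImmersion jj⟩ ⟨V, hV⟩ e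
    rw [h, h2] at h1
    have hiso : IsIso (jj.appLE (jj ''ᵁ V) V e) := by
      rw [← Scheme.Hom.appIso_hom']
      infer_instance
    exact (map_injective_of_isIso _ h1).symm
  · have hx1 : x ∉ I₁.support := fun hh => hx (h₁ hh)
    have hx2 : x ∉ I₂.support := fun hh => hx (h₂ hh)
    obtain ⟨U, hU, hxU, hle⟩ := exists_isAffineOpen_mem_and_subset
      (U := I₁.support.compl ⊓ I₂.support.compl) (x := x) ⟨hx1, hx2⟩
    refine ⟨⟨U, hU⟩, hxU, ?_⟩
    rw [ideal_eq_top_of_disjoint I₁ ⟨U, hU⟩ fun y hy => (hle hy).1,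
      ideal_eq_top_of_disjoint I₂ ⟨U, hU⟩ fun y hy => (hle hy).2]

/-- The closed subscheme does not change by restriction to an open neighbourhood of the support. -/
lemma exists_iso_comap (I : W.IdealSheafData) (h : (I.support : Set W) ⊆ Set.range jj) :
    ∃ e : (I.comap jj).subscheme ⟶ I.subscheme, IsIso e ∧
      e ≫ I.subschemeι = (I.comap jj).subschemeι ≫ jj := by
  obtain ⟨m, hm⟩ := exists_isPullback_comap jj I
  have hmo : IsOpenImmersion m := MorphismProperty.of_isPullback hm.flip ‹_›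
  have hms : Surjective m := by
    refine ⟨fun z => ?_⟩
    have hz : I.subschemeι z ∈ (I.support : Set W) := by
      rw [← I.range_subschemeι]; exact ⟨z, rfl⟩
    obtain ⟨w, hw⟩ := h hz
    obtain ⟨a, ha, -⟩ := Scheme.Pullback.exists_preimage_pullback z w hw.symm
    refine ⟨hm.isoPullback.inv a, ?_⟩
    rw [← ha, ← Scheme.Hom.comp_apply, IsPullback.isoPullback_inv_fst]
  exact ⟨m, (isIso_iff_isOpenImmersion_and_surjective _).mpr ⟨hmo, hms⟩, hm.w⟩

/-- The ideal of a closed immersion through an open immersion. -/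
lemma ker_comp_comap {Z : Scheme.{u}} (a : Z ⟶ W₀) [IsClosedImmersion (a ≫ jj)] :
    (a ≫ jj).ker.comap jj = a.ker := by
  have h : IsPullback (𝟙 Z) a (a ≫ jj) jj := by
    refine ⟨⟨by simp⟩, ⟨PullbackCone.IsLimit.mk _ (fun s => s.fst) (fun s => by simp) (fun s => ?_)
      (fun s m h1 h2 => by simpa using h1)⟩⟩
    rw [← cancel_mono jj, Category.assoc]
    exact s.condition
  exact (ker_eq_comap_of_isPullback h).symm

end Support

section FinLocFree

variable {W W₀ T : Scheme.{u}} (p : W ⟶ T) [IsProper p] (jj : W₀ ⟶ W) [IsOpenImmersion jj]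
  [SmoothOfRelativeDimension 1 (jj ≫ p)]

lemma isFinite_of_finite_fibres (I : W.IdealSheafData)
    (hfin : ∀ t : T, ((I.support : Set W) ∩ p ⁻¹' {t}).Finite) : IsFinite (I.subschemeι ≫ p) := by
  have : LocallyQuasiFinite (I.subschemeι ≫ p) := by
    refine LocallyQuasiFinite.of_finite_preimage_singleton _ fun t => ?_
    refine Set.Finite.of_finite_image (f := I.subschemeι) ((hfin t).subset ?_)
      I.subschemeι.isClosedEmbedding.injective.injOn
    rintro _ ⟨z, hz, rfl⟩
    refine ⟨?_, ?_⟩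
    · rw [← I.range_subschemeι]; exact ⟨z, rfl⟩
    · exact hz
  exact IsFinite.of_isProper_of_locallyQuasiFinite _

theorem isFinLocFree (I : W.IdealSheafData) (hI : LocPrin I)
    (h : (I.support : Set W) ⊆ Set.range jj)
    (hfin : ∀ t : T, ((I.support : Set W) ∩ p ⁻¹' {t}).Finite) :
    Mor2.IsFinLocFree (I.subschemeι ≫ p) := by
  have hf := isFinite_of_finite_fibres p I hfin
  obtain ⟨e, he, hej⟩ := exists_iso_comap jj I h
  have e1 : (I.comap jj).subschemeι ≫ jj ≫ p = e ≫ I.subschemeι ≫ p := by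
    rw [← Category.assoc, ← hej, Category.assoc]
  have hqf : LocallyQuasiFinite ((I.comap jj).subschemeι ≫ jj ≫ p) := by
    rw [e1]
    infer_instance
  obtain ⟨h1, h2⟩ := flat_lfp (jj ≫ p) (I.comap jj) (hI.comap jj) hqf
  rw [e1] at h1 h2
  refine ⟨hf, ?_, ?_⟩
  · exact (MorphismProperty.cancel_left_of_respectsIso @Flat e _).mp h1
  · exact (MorphismProperty.cancel_left_of_respectsIso @LocallyOfFinitePresentation e _).mp h2

theorem exists_split_open (I : W.IdealSheafData)
    (h : (I.support : Set W) ⊆ Set.range jj) (m : ℕ)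
    (hI : Mor2.IsFinLocFreeOfDeg m (I.subschemeι ≫ p)) :
    ∃ (T' : Scheme.{u}) (g : T' ⟶ T), Mor2.IsFinLocFree g ∧ Surjective g ∧
      ∃ (s : Fin m → (T' ⟶ W₀)) (hs : ∀ l, (s l ≫ jj) ≫ p = g),
        ∀ {W' : Scheme.{u}} (q : W' ⟶ W) (p' : W' ⟶ T') (h : IsPullback q p' p g),
          I.comap q = ∏ l, (secBC h (s l ≫ jj) (hs l)).ker := by
  obtain ⟨e, he, hej⟩ := exists_iso_comap jj I h
  have e1 : (I.comap jj).subschemeι ≫ jj ≫ p = e ≫ I.subschemeι ≫ p := by
    rw [← Category.assoc, ← hej, Category.assoc]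
  have hI₀ : Mor2.IsFinLocFreeOfDeg m ((I.comap jj).subschemeι ≫ jj ≫ p) := by
    rw [e1]
    exact isFinLocFreeOfDeg_comp_iso hI
  obtain ⟨T', g, hg, hgs, s, hs, hprod⟩ := exists_split m (jj ≫ p) (I.comap jj) hI₀
  refine ⟨T', g, hg, hgs, s, fun l => by rw [Category.assoc]; exact hs l, ?_⟩
  intro W' q p' hsq
  have h₀ : IsPullback (pullback.fst jj q) (pullback.snd jj q) jj q := IsPullback.of_hasPullback _ _
  have h₁ : IsPullback (pullback.fst jj q) (pullback.snd jj q ≫ p') (jj ≫ p) g := h₀.paste_vert hsq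
  have hfac : ∀ l, secBC hsq (s l ≫ jj) (by rw [Category.assoc]; exact hs l) =
      secBC h₁ (s l) (hs l) ≫ pullback.snd jj q := by
    intro l
    refine (secBC_unique _ _ _ _ ?_ ?_).symm
    · rw [Category.assoc, ← pullback.condition, ← Category.assoc, secBC_fst]
    · rw [Category.assoc, secBC_snd]
  have hsep : IsSeparated p' := MorphismProperty.of_isPullback hsq inferInstance
  refine eq_of_comap_eq (pullback.snd jj q) ?_ ?_ ?_
  · rw [Scheme.IdealSheafData.support_comap]
    intro x hx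
    obtain ⟨w, hw⟩ := h hx
    obtain ⟨a, -, ha⟩ := Scheme.Pullback.exists_preimage_pullback w x hw
    exact ⟨a, ha⟩
  · intro x hx
    obtain ⟨l, -, hl⟩ := (mem_support_prod _ _ x).mp hx
    have hc := isClosedImmersion_of_section (p := p') _ (secBC_snd hsq (s l ≫ jj) (by rw [Category.assoc]; exact hs l))
    obtain ⟨t, ht⟩ := (mem_support_ker _ x).mp hl
    refine ⟨secBC h₁ (s l) (hs l) t, ?_⟩
    rw [← ht, hfac, Scheme.Hom.comp_apply]
  · rw [← Scheme.IdealSheafData.comap_comp, ← pullback.condition, Scheme.IdealSheafData.comap_comp,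
      hprod _ _ h₁, comap_prod]
    refine Finset.prod_congr rfl fun l _ => ?_
    have hc : IsClosedImmersion (secBC h₁ (s l) (hs l) ≫ pullback.snd jj q) := by
      rw [← hfac]
      exact isClosedImmersion_of_section (p := p') _ (secBC_snd _ _ _)
    rw [hfac, ker_comp_comap]

end FinLocFree

end Groth.Agent.Etdl.H157.Div
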