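import Groth.Agent.Etdl.H157.Div
import Groth.Agent.Etdl.H494.Defs

/-!
# Splitting of divisors in the format of `H494.Defs`

* `famIdeal σ`: the product of the ideals of the graphs; `isEqn_iff`: `IsEqn σ O A ↔ EqnOn (famIdeal σ) O A`.
* `famIdeal_comap`, `IsEqn.pull`: base change.
* `exists_split_PT`, `exists_split_at`, `exists_sections_at`: splitting over `P_T`.
-/

set_option autoImplicit false
universe u

open CategoryTheory CategoryTheory.Limits AlgebraicGeometry

namespace Groth.Agent.Etdl.H157.SplitP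

open Groth.Agent.Picfga.SecGraph Groth.Agent.Picfga.HilbPull Groth.Agent.Divis.IdealComap
open Groth.Agent.Etdl.H157.Split Groth.Agent.Etdl.H157.Div
open Groth.Agent.Etdl.H494 (PT PTmap XS graph graph_fst graph_snd IsEqn)

variable {S P Y X : Scheme.{u}} {pbar : P ⟶ S} {i : Y ⟶ P} {j : X ⟶ P}

/-! ### The ideal of a finite family of graphs -/

section Fam

/-- The product of the ideals of the graphs. -/
noncomputable def famIdeal {T : Over S} {m : ℕ} (σ : Fin m → (T ⟶ XS pbar j)) :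
    (PT pbar T).IdealSheafData :=
  ∏ a, (graph (σ a)).ker

lemma ideal_prod {W : Scheme.{u}} {ι : Type*} (s : Finset ι) (I : ι → W.IdealSheafData)
    (U : W.affineOpens) : (∏ i ∈ s, I i).ideal U = ∏ i ∈ s, (I i).ideal U := by
  classical
  induction s using Finset.induction_on with
  | empty => simp
  | insert a s ha ih =>
    rw [Finset.prod_insert ha, Finset.prod_insert ha, Scheme.IdealSheafData.ideal_mul, Pi.mul_apply, ih]

variable [IsSeparated pbar]

lemma famIdeal_ideal {T : Over S} {m : ℕ} (σ : Fin m → (T ⟶ XS pbar j)) (U : (PT pbar T).affineOpens) :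
    (famIdeal σ).ideal U = ∏ a, RingHom.ker ((graph (σ a)).app U.1).hom := by
  rw [famIdeal, ideal_prod]
  refine Finset.prod_congr rfl fun a _ => ?_
  rw [Scheme.Hom.ker_apply]

theorem isEqn_iff {T : Over S} {m : ℕ} (σ : Fin m → (T ⟶ XS pbar j)) (O : (PT pbar T).Opens)
    (A : Γ(PT pbar T, O)) : IsEqn σ O A ↔ EqnOn (famIdeal σ) O A := by
  refine forall_congr' fun U => forall_congr' fun hU => ?_
  rw [famIdeal_ideal]

omit [IsSeparated pbar] in
lemma isPullback_PTmap {T T' : Over S} (g : T' ⟶ T) :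
    IsPullback (PTmap pbar g) (pullback.fst T'.hom pbar) (pullback.fst T.hom pbar) g.left := by
  refine IsPullback.of_right (h₁₂ := pullback.snd T.hom pbar) (v₁₃ := pbar) (h₂₂ := T.hom) ?_
    (H494.PTmap_fst pbar g) (IsPullback.of_hasPullback T.hom pbar).flip
  rw [H494.PTmap_snd, Over.w g]
  exact (IsPullback.of_hasPullback T'.hom pbar).flip

omit [IsSeparated pbar] in
lemma secBC_graph {T T' : Over S} (g : T' ⟶ T) (σ : T ⟶ XS pbar j) :
    secBC (isPullback_PTmap g) (g.left ≫ graph σ) (by rw [Category.assoc, graph_fst, Category.comp_id]) =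
      graph (g ≫ σ) := by
  refine (secBC_unique _ _ _ _ ?_ ?_).symm
  · apply pullback.hom_ext
    · rw [Category.assoc, H494.PTmap_fst, H494.graph_fst_assoc, Category.assoc, graph_fst, Category.comp_id]
    · rw [Category.assoc, H494.PTmap_snd, graph_snd, Category.assoc, graph_snd, Over.comp_left,
        Category.assoc]
  · rw [graph_fst]

theorem famIdeal_comap {T T' : Over S} (g : T' ⟶ T) {m : ℕ} (σ : Fin m → (T ⟶ XS pbar j)) :
    (famIdeal σ).comap (PTmap pbar g) = famIdeal fun a => g ≫ σ a := by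
  rw [famIdeal, comap_prod, famIdeal]
  refine Finset.prod_congr rfl fun a _ => ?_
  rw [comap_ker_section (isPullback_PTmap g) (graph (σ a)) (graph_fst _), secBC_graph]

/-- Base change of an equation. -/
theorem isEqn_pull {T T' : Over S} (g : T' ⟶ T) {m : ℕ} {σ : Fin m → (T ⟶ XS pbar j)}
    {O : (PT pbar T).Opens} {A : Γ(PT pbar T, O)} (h : IsEqn σ O A) :
    IsEqn (fun a => g ≫ σ a) (PTmap pbar g ⁻¹ᵁ O) (((PTmap pbar g).app O).hom A) := by
  rw [isEqn_iff] at h ⊢
  rw [← famIdeal_comap]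
  exact h.comap _

lemma mem_support_famIdeal {T : Over S} {m : ℕ} (σ : Fin m → (T ⟶ XS pbar j)) (x : PT pbar T) :
    x ∈ (famIdeal σ).support ↔ ∃ a, x ∈ Set.range (graph (σ a)) := by
  rw [famIdeal, mem_support_prod]
  simp [mem_support_ker]

omit [IsSeparated pbar] in
lemma range_graph_subset {T : Over S} (σ : T ⟶ XS pbar j) {x : PT pbar T} (hx : x ∈ Set.range (graph σ)) :
    pullback.snd T.hom pbar x ∈ Set.range j := by
  obtain ⟨t, rfl⟩ := hx
  refine ⟨σ.left t, ?_⟩
  rw [← Scheme.Hom.comp_apply, ← Scheme.Hom.comp_apply, graph_snd]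

lemma support_famIdeal {T : Over S} {m : ℕ} (σ : Fin m → (T ⟶ XS pbar j)) {x : PT pbar T}
    (hx : x ∈ (famIdeal σ).support) : pullback.snd T.hom pbar x ∈ Set.range j := by
  obtain ⟨a, ha⟩ := (mem_support_famIdeal σ x).mp hx
  exact range_graph_subset _ ha

end Fam

/-! ### Splitting -/

section SplitPT

lemma isPullback_XT (T : Over S) :
    IsPullback (pullback.snd (pullback.snd T.hom pbar) j)
      (pullback.fst (pullback.snd T.hom pbar) j ≫ pullback.fst T.hom pbar) (j ≫ pbar) T.hom :=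
  (IsPullback.of_hasPullback (pullback.snd T.hom pbar) j).flip.paste_vert
    (IsPullback.of_hasPullback T.hom pbar).flip

lemma smooth_XT [SmoothOfRelativeDimension 1 (j ≫ pbar)] (T : Over S) : SmoothOfRelativeDimension 1
    (pullback.fst (pullback.snd T.hom pbar) j ≫ pullback.fst T.hom pbar) := by
  have := smoothOfRelativeDimension_isStableUnderBaseChange.{u} 1
  exact MorphismProperty.of_isPullback (P := @SmoothOfRelativeDimension 1) (isPullback_XT T) ‹_›

lemma mem_range_XT (T : Over S) (x : PT pbar T) :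
    x ∈ Set.range (pullback.fst (pullback.snd T.hom pbar) j) ↔ pullback.snd T.hom pbar x ∈ Set.range j := by
  rw [Scheme.Pullback.range_fst]
  rfl

variable [IsProper pbar] [IsOpenImmersion j] [SmoothOfRelativeDimension 1 (j ≫ pbar)]

theorem exists_split_PT {T : Over S} (I : (PT pbar T).IdealSheafData)
    (hsupp : ∀ x ∈ I.support, pullback.snd T.hom pbar x ∈ Set.range j) (m : ℕ)
    (hI : Mor2.IsFinLocFreeOfDeg m (I.subschemeι ≫ pullback.fst T.hom pbar)) :
    ∃ (T' : Over S) (g : T' ⟶ T), Mor2.IsFinLocFree g.left ∧ Surjective g.left ∧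
      ∃ ρ : Fin m → (T' ⟶ XS pbar j), I.comap (PTmap pbar g) = famIdeal ρ := by
  have := smooth_XT (pbar := pbar) (j := j) T
  obtain ⟨T', g, hg, hgs, s, hs, hprod⟩ := exists_split_open (pullback.fst T.hom pbar)
    (pullback.fst (pullback.snd T.hom pbar) j) I
    (fun x hx => (mem_range_XT T x).mpr (hsupp x hx)) m hI
  let T₁ : Over S := Over.mk (g ≫ T.hom)
  let g₁ : T₁ ⟶ T := Over.homMk g rfl
  let ρ : Fin m → (T₁ ⟶ XS pbar j) := fun l => Over.homMk (s l ≫ pullback.snd _ _) (by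
    simp only [XS, Over.mk_hom, T₁]
    rw [Category.assoc, (isPullback_XT (pbar := pbar) (j := j) T).w, ← hs l]
    simp only [Category.assoc])
  refine ⟨T₁, g₁, hg, hgs, ρ, ?_⟩
  rw [hprod _ _ (isPullback_PTmap g₁), famIdeal]
  refine Finset.prod_congr rfl fun l _ => ?_
  congr 1
  refine (secBC_unique _ _ _ _ ?_ ?_).symm
  · apply pullback.hom_ext
    · rw [Category.assoc, H494.PTmap_fst, H494.graph_fst_assoc, hs l]
      rfl
    · rw [Category.assoc, H494.PTmap_snd, graph_snd, Category.assoc, pullback.condition]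
      simp only [ρ, Over.homMk_left, Category.assoc]
  · rw [graph_fst]
    rfl

theorem exists_split_at {T : Over S} (I : (PT pbar T).IdealSheafData) (hI : LocPrin I)
    (hsupp : ∀ x ∈ I.support, pullback.snd T.hom pbar x ∈ Set.range j)
    (hfin : ∀ t : T.left, ((I.support : Set (PT pbar T)) ∩ pullback.fst T.hom pbar ⁻¹' {t}).Finite)
    (t : T.left) :
    ∃ (T' : Over S) (g : T' ⟶ T), Flat g.left ∧ LocallyOfFinitePresentation g.left ∧ t ∈ Set.range g.left ∧
      ∃ (m : ℕ) (ρ : Fin m → (T' ⟶ XS pbar j)), I.comap (PTmap pbar g) = famIdeal ρ := by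
  have := smooth_XT (pbar := pbar) (j := j) T
  have hflf : Mor2.IsFinLocFree (I.subschemeι ≫ pullback.fst T.hom pbar) :=
    isFinLocFree (pullback.fst T.hom pbar) (pullback.fst (pullback.snd T.hom pbar) j) I hI
      (fun x hx => (mem_range_XT T x).mpr (hsupp x hx)) hfin
  obtain ⟨h1, h2, h3⟩ := hflf
  set r := I.subschemeι ≫ pullback.fst T.hom pbar with hr
  have hlc := Scheme.Hom.isLocallyConstant_finrank (f := r)
  let m := r.finrank t
  let V : T.left.Opens := ⟨r.finrank ⁻¹' {m}, hlc.isOpen_fiber m⟩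
  let T₁ : Over S := Over.mk (V.ι ≫ T.hom)
  let ι₁ : T₁ ⟶ T := Over.homMk V.ι rfl
  have hι : ι₁.left = V.ι := rfl
  let I₁ := I.comap (PTmap pbar ι₁)
  have hI₁ : Mor2.IsFinLocFreeOfDeg m (I₁.subschemeι ≫ pullback.fst T₁.hom pbar) := by
    obtain ⟨a, ha⟩ := exists_isPullback_comap (PTmap pbar ι₁) I
    have hsq := ha.paste_vert (isPullback_PTmap ι₁)
    refine ⟨⟨MorphismProperty.of_isPullback hsq h1, MorphismProperty.of_isPullback hsq h2,
      MorphismProperty.of_isPullback hsq h3⟩, fun y => ?_⟩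
    rw [Scheme.Hom.finrank_of_isPullback _ _ _ _ hsq]
    exact y.2
  have hsupp₁ : ∀ x ∈ I₁.support, pullback.snd T₁.hom pbar x ∈ Set.range j := by
    intro x hx
    have hx' : x ∈ ((I.comap (PTmap pbar ι₁)).support : Set _) := hx
    rw [Scheme.IdealSheafData.support_comap] at hx'
    have := hsupp _ hx'
    rwa [← Scheme.Hom.comp_apply, H494.PTmap_snd] at this
  obtain ⟨T', g, ⟨g1, g2, g3⟩, gs, ρ, hρ⟩ := exists_split_PT I₁ hsupp₁ m hI₁
  refine ⟨T', g ≫ ι₁, ?_, ?_, ?_, m, ρ, ?_⟩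
  · rw [Over.comp_left, hι]; infer_instance
  · rw [Over.comp_left, hι]; infer_instance
  · obtain ⟨y, hy⟩ := g.left.surjective (⟨t, rfl⟩ : V.toScheme)
    refine ⟨y, ?_⟩
    rw [Over.comp_left, Scheme.Hom.comp_apply, hy]
    rfl
  · rw [← hρ]
    have : PTmap pbar (g ≫ ι₁) = PTmap pbar g ≫ PTmap pbar ι₁ := by
      simp only [PTmap, Functor.map_comp, Over.comp_left]
    rw [this, Scheme.IdealSheafData.comap_comp]

end SplitPT

/-! ### The version with local equations -/

section Local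

variable {W : Scheme.{u}}

lemma mem_support_iff_of_eqnOn {I : W.IdealSheafData} {O : W.Opens} {A : Γ(W, O)} (h : EqnOn I O A)
    {x : W} (hx : x ∈ O) : x ∈ I.support ↔ x ∉ W.basicOpen A := by
  obtain ⟨U, hU, hxU, hUO⟩ := exists_isAffineOpen_mem_and_subset (U := O) (x := x) hx
  rw [Scheme.IdealSheafData.mem_support_iff_of_mem (U := ⟨U, hU⟩) hxU, h ⟨U, hU⟩ hUO]
  simp only [Scheme.zeroLocus_span, Scheme.zeroLocus_singleton]
  have e : W.basicOpen (Div.res hUO A) = U ⊓ W.basicOpen A := W.basicOpen_res A (homOfLE hUO).op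
  simp only [Set.mem_compl_iff, SetLike.mem_coe, e]
  constructor
  · intro h1 h2; exact h1 ⟨hxU, h2⟩
  · intro h1 h2; exact h1 h2.2

end Local

section SplitLocal

variable [IsProper pbar] [IsOpenImmersion j] [SmoothOfRelativeDimension 1 (j ≫ pbar)]

/-- SPLIT: a divisor on `P_T` given by local equations `F a` (with the zeros in `X_T` and finite fibres over `T`)
is, fppf locally on `T`, the divisor of a finite family of sections. -/
theorem exists_sections_at {T : Over S} {ι : Type u} (O : ι → (PT pbar T).Opens)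
    (hO : ∀ x : PT pbar T, ∃ a, x ∈ O a) (F : ∀ a, Γ(PT pbar T, O a))
    (hF : ∀ (a b : ι) (U : (PT pbar T).affineOpens) (ha : U.1 ≤ O a) (hb : U.1 ≤ O b),
      Ideal.span {H494.res ha (F a)} = Ideal.span {H494.res hb (F b)})
    (hX : ∀ (a : ι) (x : PT pbar T), x ∈ O a → x ∉ (PT pbar T).basicOpen (F a) →
      pullback.snd T.hom pbar x ∈ Set.range j)
    (hfin : ∀ t : T.left, {x : PT pbar T | pullback.fst T.hom pbar x = t ∧
      ∃ a, x ∈ O a ∧ x ∉ (PT pbar T).basicOpen (F a)}.Finite)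
    (t : T.left) :
    ∃ (T' : Over S) (g : T' ⟶ T), Flat g.left ∧ LocallyOfFinitePresentation g.left ∧ t ∈ Set.range g.left ∧
      ∃ (m : ℕ) (ρ : Fin m → (T' ⟶ XS pbar j)), ∀ a, IsEqn ρ (PTmap pbar g ⁻¹ᵁ O a)
        (((PTmap pbar g).app (O a)).hom (F a)) := by
  obtain ⟨I, hI⟩ := exists_glue O hO F hF
  obtain ⟨T', g, h1, h2, h3, m, ρ, h4⟩ := exists_split_at I (EqnOn.locPrin hO hI)
    (fun x hx => by
      obtain ⟨a, ha⟩ := hO x
      exact hX a x ha ((mem_support_iff_of_eqnOn (hI a) ha).mp hx))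
    (fun t => (hfin t).subset (fun x ⟨hx, hxt⟩ => by
      obtain ⟨a, ha⟩ := hO x
      exact ⟨hxt, a, ha, (mem_support_iff_of_eqnOn (hI a) ha).mp hx⟩)) t
  refine ⟨T', g, h1, h2, h3, m, ρ, fun a => ?_⟩
  rw [isEqn_iff, ← h4]
  exact (hI a).comap _

omit [IsProper pbar] in
/-- A point of `P_T` over `Y` is in the image of `Y_T`. -/
lemma mem_range_yinc (i : Y ⟶ P) (T : Over S) (x : PT pbar T)
    (hx : pullback.snd T.hom pbar x ∈ Set.range i) : x ∈ Set.range (H494.yinc pbar i T) := by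
  rw [Scheme.Pullback.range_fst]
  exact hx

/-- SPLIT, in the form asked by helper118. -/
theorem split (i : Y ⟶ P) (hij : Set.range j.base = (Set.range i.base)ᶜ) (T : Over S) (t : T.left)
    {ι : Type u} (O : ι → (PT pbar T).Opens) (F : ∀ a, Γ(PT pbar T, O a))
    (hO : ∀ x : PT pbar T, ∃ a, x ∈ O a)
    (hF : ∀ (a b : ι) (W : (PT pbar T).Opens) (ha : W ≤ O a) (hb : W ≤ O b),
      ∃ v : Γ(PT pbar T, W), IsUnit v ∧ H494.res ha (F a) = v * H494.res hb (F b))
    (hY : ∀ (a : ι) (y : ↥(pullback (pullback.snd T.hom pbar) i)),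
      H494.yinc pbar i T y ∈ O a → H494.yinc pbar i T y ∈ (PT pbar T).basicOpen (F a))
    (hfin : ∀ s : T.left, {x : PT pbar T | pullback.fst T.hom pbar x = s ∧
      ∀ a, x ∈ O a → x ∉ (PT pbar T).basicOpen (F a)}.Finite) :
    ∃ (T' : Over S) (g : T' ⟶ T), Flat g.left ∧ LocallyOfFinitePresentation g.left ∧ t ∈ Set.range g.left ∧
      ∃ (m : ℕ) (ρ : Fin m → (T' ⟶ XS pbar j)), ∀ a, IsEqn ρ (PTmap pbar g ⁻¹ᵁ O a)
        (((PTmap pbar g).app (O a)).hom (F a)) := by
  have hspan : ∀ (a b : ι) (U : (PT pbar T).affineOpens) (ha : U.1 ≤ O a) (hb : U.1 ≤ O b),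
      Ideal.span {H494.res ha (F a)} = Ideal.span {H494.res hb (F b)} := by
    intro a b U ha hb
    obtain ⟨v, hv, h⟩ := hF a b U.1 ha hb
    rw [h, Ideal.span_singleton_mul_left_unit hv]
  obtain ⟨I, hI⟩ := exists_glue O hO F hspan
  refine exists_sections_at O hO F hspan ?_ ?_ t
  · intro a x hx hx'
    by_contra hj
    have h1 : pullback.snd T.hom pbar x ∈ Set.range i.base := by
      by_contra h2
      apply hj
      have : pullback.snd T.hom pbar x ∈ Set.range j.base := by rw [hij]; exact h2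
      exact this
    obtain ⟨y, rfl⟩ := mem_range_yinc i T x h1
    exact hx' (hY a y hx)
  · intro s
    refine (hfin s).subset ?_
    rintro x ⟨hxs, a, ha, hxa⟩
    refine ⟨hxs, fun b hb hxb => ?_⟩
    exact (mem_support_iff_of_eqnOn (hI b) hb).mp ((mem_support_iff_of_eqnOn (hI a) ha).mpr hxa) hxb

end SplitLocal

end Groth.Agent.Etdl.H157.SplitP
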