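import Groth.Agent.Etdl.H157.PencilA

/-!
# The pencil argument: `PencilStmt`

A relation datum `(O_a, A_a, B_a)` over an algebraically closed field is deformed to the trivial one by
`F_a = (1 - t) B_a + t A_a` over an open subscheme `U` of the affine line, where the divisor of `F` is finite
locally free; then it is split over a finite locally free cover of `U`.
-/

set_option autoImplicit false
universe u

open CategoryTheory CategoryTheory.Limits AlgebraicGeometry

namespace Groth.Agent.Etdl.H157.Pencil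

open Groth.Agent.Picfga.SecGraph Groth.Agent.Picfga.HilbPull Groth.Agent.Divis.IdealComap
open Groth.Agent.Divis.EffCartier
open Groth.Agent.Etdl.H157.Split Groth.Agent.Etdl.H157.Div Groth.Agent.Etdl.H157.SplitP
open Groth.Agent.Etdl.H157.PencilA
open Groth.Agent.Etdl.H494 (PT PTmap XS graph graph_fst graph_snd IsEqn yinc RelDatum)

/-! ### The locus of finite fibres -/

section Locus

variable {W T : Scheme.{u}} (p : W ⟶ T) [IsProper p] (I : W.IdealSheafData)

/-- The locus in the base over which the closed subscheme has finite fibres is open. -/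
lemma isOpen_finite_fibres : IsOpen {t : T | ((I.support : Set W) ∩ p ⁻¹' {t}).Finite} := by
  rw [isOpen_iff_forall_mem_open]
  intro t ht
  have h1 : ((I.subschemeι ≫ p) ⁻¹' {t}).Finite := by
    refine Set.Finite.of_finite_image (f := I.subschemeι) (Set.Finite.subset ht ?_)
      I.subschemeι.isClosedEmbedding.injective.injOn
    rintro _ ⟨z, hz, rfl⟩
    exact ⟨by rw [← I.range_subschemeι]; exact ⟨z, rfl⟩, hz⟩
  obtain ⟨V, htV, hV⟩ := exists_isFinite_morphismRestrict_of_finite_preimage_singleton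
    (I.subschemeι ≫ p) t h1
  refine ⟨V, fun s hs => ?_, V.2, htV⟩
  have h2 := Scheme.Hom.finite_preimage_singleton ((I.subschemeι ≫ p) ∣_ V) ⟨s, hs⟩
  refine (h2.image fun z => I.subschemeι z.1).subset ?_
  rintro w ⟨hw, hws⟩
  rw [← I.range_subschemeι] at hw
  obtain ⟨z, rfl⟩ := hw
  have hz : (I.subschemeι ≫ p) z ∈ V := by
    have : (I.subschemeι ≫ p) z = s := hws
    rw [this]; exact hs
  refine ⟨⟨z, hz⟩, ?_, rfl⟩
  apply Subtype.ext
  have e : (((I.subschemeι ≫ p) ∣_ V) ⟨z, hz⟩).1 = (I.subschemeι ≫ p) z := by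
    have := congr($(morphismRestrict_ι (I.subschemeι ≫ p) V) ⟨z, hz⟩)
    exact this
  rw [e]
  exact hws

end Locus

/-! ### The affine line -/

section Line

variable {S P Y X : Scheme.{u}} {pbar : P ⟶ S} {i : Y ⟶ P} {j : X ⟶ P}
variable {Ω : Type u} [Field Ω] (x : Spec (CommRingCat.of Ω) ⟶ S)

/-- The affine line over `Ω`. -/
noncomputable abbrev AffC (Ω : Type u) [Field Ω] :
    Spec (CommRingCat.of (Polynomial Ω)) ⟶ Spec (CommRingCat.of Ω) :=
  Spec.map (CommRingCat.ofHom (Polynomial.C : Ω →+* Polynomial Ω))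

/-- The affine line over `Ω` as a scheme over `S`. -/
noncomputable abbrev AL : Over S := Over.mk (AffC Ω ≫ x)

/-- The structure morphism of the affine line. -/
noncomputable abbrev alq : AL x ⟶ Over.mk x := Over.homMk (AffC Ω) rfl

/-- The rational points of the affine line. -/
noncomputable def pt (c : Ω) : Over.mk x ⟶ AL x :=
  Over.homMk (Spec.map (CommRingCat.ofHom (Polynomial.evalRingHom c))) (by
    simp only [Over.mk_hom]
    rw [← Category.assoc, ← Spec.map_comp, ← CommRingCat.ofHom_comp]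
    have : (Polynomial.evalRingHom c).comp Polynomial.C = RingHom.id Ω := by ext; simp
    rw [this]
    simp)

lemma pt_alq (c : Ω) : pt x c ≫ alq x = 𝟙 _ := by
  ext1
  simp only [pt, alq, Over.comp_left, Over.homMk_left, Over.id_left]
  rw [← Spec.map_comp, ← CommRingCat.ofHom_comp]
  have : (Polynomial.evalRingHom c).comp Polynomial.C = RingHom.id Ω := by ext; simp
  rw [this]
  simp

variable (pbar) in
/-- The coordinate of the affine line as a function on `P_𝔸`. -/
noncomputable def tf (V : (PT pbar (AL x)).Opens) : Γ(PT pbar (AL x), V) :=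
  Div.res le_top ((pullback.fst (AL x).hom pbar).appTop.hom
    ((Scheme.ΓSpecIso (CommRingCat.of (Polynomial Ω))).inv.hom Polynomial.X))

lemma res_tf {U V : (PT pbar (AL x)).Opens} (h : U ≤ V) : Div.res h (tf pbar x V) = tf pbar x U :=
  res_res _ _ _

lemma app_tf (c : Ω) (V : (PT pbar (AL x)).Opens) :
    ((PTmap pbar (pt x c)).app V).hom (tf pbar x V) =
      Div.res le_top ((pullback.fst (Over.mk x).hom pbar).appTop.hom
        ((Scheme.ΓSpecIso (CommRingCat.of Ω)).inv.hom c)) := by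
  have h1 : (pt x c).left.appTop.hom
      ((Scheme.ΓSpecIso (CommRingCat.of (Polynomial Ω))).inv.hom Polynomial.X) =
      (Scheme.ΓSpecIso (CommRingCat.of Ω)).inv.hom c := by
    have h2 := congr(($(Scheme.ΓSpecIso_inv_naturality
      (CommRingCat.ofHom (Polynomial.evalRingHom c : Polynomial Ω →+* Ω)))).hom Polynomial.X)
    simp only [CommRingCat.hom_comp, RingHom.comp_apply, CommRingCat.hom_ofHom,
      Polynomial.coe_evalRingHom, Polynomial.eval_X] at h2
    exact h2.symm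
  have h3 : (PTmap pbar (pt x c) ≫ pullback.fst (AL x).hom pbar).appTop.hom
      ((Scheme.ΓSpecIso (CommRingCat.of (Polynomial Ω))).inv.hom Polynomial.X) =
      (pullback.fst (Over.mk x).hom pbar).appTop.hom
        ((Scheme.ΓSpecIso (CommRingCat.of Ω)).inv.hom c) := by
    rw [H494.PTmap_fst, Scheme.Hom.comp_appTop, CommRingCat.hom_comp, RingHom.comp_apply, h1]
  rw [← h3, Scheme.Hom.comp_appTop, CommRingCat.hom_comp, RingHom.comp_apply, tf]
  simp only [Div.res]
  rw [← CommRingCat.comp_apply, ← CommRingCat.comp_apply, Scheme.Hom.naturality]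
  rfl

lemma app_tf_zero (V : (PT pbar (AL x)).Opens) :
    ((PTmap pbar (pt x (0 : Ω))).app V).hom (tf pbar x V) = 0 := by
  rw [app_tf]; simp

lemma app_tf_one (V : (PT pbar (AL x)).Opens) :
    ((PTmap pbar (pt x (1 : Ω))).app V).hom (tf pbar x V) = 1 := by
  rw [app_tf]; simp

end Line

section Pen

variable {S P Y X : Scheme.{u}} {pbar : P ⟶ S} {i : Y ⟶ P} {j : X ⟶ P}
variable {Ω : Type u} [Field Ω] (x : Spec (CommRingCat.of Ω) ⟶ S)

/-- the pencil of local equations -/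
noncomputable def pen {O : (PT pbar (Over.mk x)).Opens} (A B : Γ(PT pbar (Over.mk x), O)) :
    Γ(PT pbar (AL x), PTmap pbar (alq x) ⁻¹ᵁ O) :=
  (1 - tf pbar x _) * ((PTmap pbar (alq x)).app O).hom B + tf pbar x _ * ((PTmap pbar (alq x)).app O).hom A

lemma pen_zero {O : (PT pbar (Over.mk x)).Opens} (A B : Γ(PT pbar (Over.mk x), O)) :
    ((PTmap pbar (pt x (0 : Ω))).app _).hom (pen x A B) =
      ((PTmap pbar (pt x (0 : Ω))).app _).hom (((PTmap pbar (alq x)).app O).hom B) := by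
  rw [pen, map_add, map_mul, map_mul, map_sub, app_tf_zero, map_one, sub_zero, one_mul, zero_mul, add_zero]

lemma pen_one {O : (PT pbar (Over.mk x)).Opens} (A B : Γ(PT pbar (Over.mk x), O)) :
    ((PTmap pbar (pt x (1 : Ω))).app _).hom (pen x A B) =
      ((PTmap pbar (pt x (1 : Ω))).app _).hom (((PTmap pbar (alq x)).app O).hom A) := by
  rw [pen, map_add, map_mul, map_mul, map_sub, app_tf_one, map_one, sub_self, one_mul, zero_mul, zero_add]

lemma res_app_res {W W' : Scheme.{u}} (q : W' ⟶ W) {O O' : W.Opens} (h : O' ≤ O) (U : W'.Opens)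
    (hU : U ≤ q ⁻¹ᵁ O') (A : Γ(W, O)) :
    Div.res hU ((q.app O').hom (Div.res h A)) =
      Div.res (hU.trans (q.preimage_mono h)) ((q.app O).hom A) := by
  simp only [Div.res]
  rw [← CommRingCat.comp_apply, ← CommRingCat.comp_apply, ← CommRingCat.comp_apply,
    Scheme.Hom.naturality_assoc, ← Functor.map_comp]
  rfl

/-- Base change of the relation `A₁ B₂ = A₂ B₁`. -/
lemma rel_app {W W' : Scheme.{u}} (q : W' ⟶ W) {O₁ O₂ : W.Opens} {A₁ B₁ : Γ(W, O₁)} {A₂ B₂ : Γ(W, O₂)}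
    (h : ∀ (V : W.Opens) (h₁ : V ≤ O₁) (h₂ : V ≤ O₂),
      Div.res h₁ A₁ * Div.res h₂ B₂ = Div.res h₂ A₂ * Div.res h₁ B₁)
    (U : W'.Opens) (h₁ : U ≤ q ⁻¹ᵁ O₁) (h₂ : U ≤ q ⁻¹ᵁ O₂) :
    Div.res h₁ ((q.app O₁).hom A₁) * Div.res h₂ ((q.app O₂).hom B₂) =
      Div.res h₂ ((q.app O₂).hom A₂) * Div.res h₁ ((q.app O₁).hom B₁) := by
  have hU : U ≤ q ⁻¹ᵁ (O₁ ⊓ O₂) := le_inf h₁ h₂
  have k := congrArg (fun z => Div.res hU ((q.app (O₁ ⊓ O₂)).hom z)) (h (O₁ ⊓ O₂) inf_le_left inf_le_right)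
  simp only [map_mul, res_app_res] at k
  exact k

lemma res_pen {O : (PT pbar (Over.mk x)).Opens} (A B : Γ(PT pbar (Over.mk x), O))
    {U : (PT pbar (AL x)).Opens} (h : U ≤ PTmap pbar (alq x) ⁻¹ᵁ O) : Div.res h (pen x A B) =
      (1 - tf pbar x U) * Div.res h (((PTmap pbar (alq x)).app O).hom B) +
        tf pbar x U * Div.res h (((PTmap pbar (alq x)).app O).hom A) := by
  rw [pen, map_add, map_mul, map_mul, map_sub, map_one, res_tf]

lemma rel_pen {O₁ O₂ : (PT pbar (Over.mk x)).Opens} {A₁ B₁ : Γ(PT pbar (Over.mk x), O₁)}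
    {A₂ B₂ : Γ(PT pbar (Over.mk x), O₂)}
    (h : ∀ (V : (PT pbar (Over.mk x)).Opens) (h₁ : V ≤ O₁) (h₂ : V ≤ O₂),
      Div.res h₁ A₁ * Div.res h₂ B₂ = Div.res h₂ A₂ * Div.res h₁ B₁)
    (U : (PT pbar (AL x)).Opens) (h₁ : U ≤ PTmap pbar (alq x) ⁻¹ᵁ O₁)
    (h₂ : U ≤ PTmap pbar (alq x) ⁻¹ᵁ O₂) :
    Div.res h₁ (pen x A₁ B₁) * Div.res h₂ (((PTmap pbar (alq x)).app O₂).hom B₂) =
      Div.res h₂ (pen x A₂ B₂) * Div.res h₁ (((PTmap pbar (alq x)).app O₁).hom B₁) := by
  rw [res_pen, res_pen]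
  linear_combination (tf pbar x U) * rel_app (PTmap pbar (alq x)) h U h₁ h₂

end Pen

section Main

variable {S P Y X : Scheme.{u}} {pbar : P ⟶ S} {i : Y ⟶ P} {j : X ⟶ P}
variable {Ω : Type u} [Field Ω] (x : Spec (CommRingCat.of Ω) ⟶ S)

lemma famIdeal_comap_comap [IsSeparated pbar] {T T' T'' : Over S} (g : T' ⟶ T) (h : T'' ⟶ T') {m : ℕ}
    (σ : Fin m → (T ⟶ XS pbar j)) :
    ((famIdeal σ).comap (PTmap pbar g)).comap (PTmap pbar h) = famIdeal fun a => (h ≫ g) ≫ σ a := by
  rw [famIdeal_comap, famIdeal_comap]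
  simp only [Category.assoc]

lemma PTmap_comp {T T' T'' : Over S} (g : T' ⟶ T) (h : T'' ⟶ T') :
    PTmap pbar (h ≫ g) = PTmap pbar h ≫ PTmap pbar g := by
  simp only [PTmap, Functor.map_comp, Over.comp_left]

variable [IsProper pbar]

/-- The ideal sheaf of the pencil. -/
theorem exists_pencil [IsOpenImmersion j] [SmoothOfRelativeDimension 1 (j ≫ pbar)] {m n : ℕ} (σ : Fin m → (Over.mk x ⟶ XS pbar j)) (τ : Fin n → (Over.mk x ⟶ XS pbar j))
    {ι : Type u} (O : ι → (PT pbar (Over.mk x)).Opens) (A B : ∀ a, Γ(PT pbar (Over.mk x), O a))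
    (hO : ∀ y : PT pbar (Over.mk x), ∃ a, y ∈ O a) (hA : ∀ a, IsEqn σ (O a) (A a))
    (hB : ∀ a, IsEqn τ (O a) (B a))
    (hAB : ∀ (a b : ι) (W : (PT pbar (Over.mk x)).Opens) (ha : W ≤ O a) (hb : W ≤ O b),
      H494.res ha (A a) * H494.res hb (B b) = H494.res hb (A b) * H494.res ha (B a)) :
    ∃ I : (PT pbar (AL x)).IdealSheafData,
      (∀ a, EqnOn I (PTmap pbar (alq x) ⁻¹ᵁ O a) (pen x (A a) (B a))) ∧
      I.comap (PTmap pbar (pt x (0 : Ω))) = famIdeal τ ∧
      I.comap (PTmap pbar (pt x (1 : Ω))) = famIdeal σ := by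
  have hA' := fun a => (isEqn_iff _ _ _).mp (hA a)
  have hB' := fun a => (isEqn_iff _ _ _).mp (hB a)
  have hB'' := fun a => (hB' a).comap (PTmap pbar (alq x))
  have hA'' := fun a => (hA' a).comap (PTmap pbar (alq x))
  have hcov : ∀ y : PT pbar (AL x), ∃ a, y ∈ PTmap pbar (alq x) ⁻¹ᵁ O a := fun y => hO _
  have heff : BlowUp.IsEffCartierIdeal ((famIdeal τ).comap (PTmap pbar (alq x))) := by
    rw [famIdeal_comap]; exact isEff_famIdeal _
  have hrel : ∀ (a b : ι) (U : (PT pbar (AL x)).Opens) (ha : U ≤ PTmap pbar (alq x) ⁻¹ᵁ O a)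
      (hb : U ≤ PTmap pbar (alq x) ⁻¹ᵁ O b),
      Div.res ha (((PTmap pbar (alq x)).app (O a)).hom (A a)) *
        Div.res hb (((PTmap pbar (alq x)).app (O b)).hom (B b)) =
      Div.res hb (((PTmap pbar (alq x)).app (O b)).hom (A b)) *
        Div.res ha (((PTmap pbar (alq x)).app (O a)).hom (B a)) :=
    fun a b U ha hb => rel_app _ (hAB a b) U ha hb
  obtain ⟨I, hI⟩ := exists_glue (fun a => PTmap pbar (alq x) ⁻¹ᵁ O a) hcov (fun a => pen x (A a) (B a)) (by
    intro a b U ha hb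
    rw [res_pen, res_pen]
    exact span_eq_of_relation (nonZeroDivisor_of_eqnOn heff (hB'' b) U.1 hb)
      (by rw [← hB'' a U ha, ← hB'' b U hb]) (hrel a b U.1 ha hb))
  refine ⟨I, hI, ?_, ?_⟩
  · refine (eq_of_eqnOn (O := fun a => PTmap pbar (pt x (0 : Ω)) ⁻¹ᵁ (PTmap pbar (alq x) ⁻¹ᵁ O a))
      (fun y => hcov _) (fun a => (hI a).comap (PTmap pbar (pt x (0 : Ω))))
      (fun a => ?_)).trans ((famIdeal_comap_comap (alq x) (pt x (0 : Ω)) τ).trans ?_)
    · rw [pen_zero]
      exact (hB'' a).comap _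
    · simp only [pt_alq, Category.id_comp]
  · refine (eq_of_eqnOn (O := fun a => PTmap pbar (pt x (1 : Ω)) ⁻¹ᵁ (PTmap pbar (alq x) ⁻¹ᵁ O a))
      (fun y => hcov _) (fun a => (hI a).comap (PTmap pbar (pt x (1 : Ω))))
      (fun a => ?_)).trans ((famIdeal_comap_comap (alq x) (pt x (1 : Ω)) σ).trans ?_)
    · rw [pen_one]
      exact (hA'' a).comap _
    · simp only [pt_alq, Category.id_comp]

omit [IsProper pbar] in
lemma yinc_pen (i : Y ⟶ P) {O : (PT pbar (Over.mk x)).Opens} {A B : Γ(PT pbar (Over.mk x), O)}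
    (h : ((yinc pbar i (Over.mk x)).app O).hom A = ((yinc pbar i (Over.mk x)).app O).hom B) :
    ((yinc pbar i (AL x)).app (PTmap pbar (alq x) ⁻¹ᵁ O)).hom (pen x A B) =
      ((yinc pbar i (AL x)).app (PTmap pbar (alq x) ⁻¹ᵁ O)).hom (((PTmap pbar (alq x)).app O).hom B) := by
  have h1 := H494.yinc_pull i (alq x) h
  rw [pen, map_add, map_mul, map_mul, map_sub, map_one, h1]
  ring

lemma support_pencil (i : Y ⟶ P) (hij : Set.range j.base = (Set.range i.base)ᶜ)
    {n : ℕ} (τ : Fin n → (Over.mk x ⟶ XS pbar j))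
    {ι : Type u} (O : ι → (PT pbar (Over.mk x)).Opens) (A B : ∀ a, Γ(PT pbar (Over.mk x), O a))
    (hO : ∀ y : PT pbar (Over.mk x), ∃ a, y ∈ O a)
    (hB : ∀ a, IsEqn τ (O a) (B a))
    (hY : ∀ a, ((yinc pbar i (Over.mk x)).app (O a)).hom (A a) =
      ((yinc pbar i (Over.mk x)).app (O a)).hom (B a))
    (I : (PT pbar (AL x)).IdealSheafData)
    (hI : ∀ a, EqnOn I (PTmap pbar (alq x) ⁻¹ᵁ O a) (pen x (A a) (B a)))
    (y : PT pbar (AL x)) (hy : y ∈ I.support) : pullback.snd (AL x).hom pbar y ∈ Set.range j := by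
  by_contra hj
  have h1 : pullback.snd (AL x).hom pbar y ∈ Set.range i.base := by
    by_contra h2
    apply hj
    have : pullback.snd (AL x).hom pbar y ∈ Set.range j.base := by rw [hij]; exact h2
    exact this
  obtain ⟨y', rfl⟩ := mem_range_yinc i (AL x) y h1
  obtain ⟨a, ha⟩ := hO (PTmap pbar (alq x) (yinc pbar i (AL x) y'))
  have ha' : yinc pbar i (AL x) y' ∈ PTmap pbar (alq x) ⁻¹ᵁ O a := ha
  have h2 := (mem_support_iff_of_eqnOn (hI a) ha').mp hy
  have h3 : yinc pbar i (AL x) y' ∈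
      (PT pbar (AL x)).basicOpen (((PTmap pbar (alq x)).app (O a)).hom (B a)) := by
    by_contra h4
    have h5 := (mem_support_iff_of_eqnOn (((isEqn_iff _ _ _).mp (hB a)).comap (PTmap pbar (alq x)))
      ha').mpr h4
    rw [famIdeal_comap] at h5
    exact hj (support_famIdeal _ h5)
  apply h2
  have h6 : y' ∈ (yinc pbar i (AL x)) ⁻¹ᵁ
      ((PT pbar (AL x)).basicOpen (((PTmap pbar (alq x)).app (O a)).hom (B a))) := h3
  rw [Scheme.preimage_basicOpen, ← yinc_pen x i (hY a), ← Scheme.preimage_basicOpen] at h6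
  exact h6

lemma finite_support_famIdeal {m : ℕ} (σ : Fin m → (Over.mk x ⟶ XS pbar j)) :
    ((famIdeal σ).support : Set (PT pbar (Over.mk x))).Finite := by
  have h : ((famIdeal σ).support : Set (PT pbar (Over.mk x))) ⊆
      Set.range fun a : Fin m => graph (σ a) (IsLocalRing.closedPoint Ω) := by
    intro y hy
    obtain ⟨a, ha⟩ := (mem_support_famIdeal σ y).mp hy
    rw [range_graph] at ha
    exact ⟨a, ha.symm⟩
  exact (Set.finite_range _).subset h

lemma finite_fibre_pt {m : ℕ} (σ : Fin m → (Over.mk x ⟶ XS pbar j)) (c : Ω)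
    (I : (PT pbar (AL x)).IdealSheafData) (hI : I.comap (PTmap pbar (pt x c)) = famIdeal σ) :
    ((I.support : Set (PT pbar (AL x))) ∩
      pullback.fst (AL x).hom pbar ⁻¹' {(pt x c).left (IsLocalRing.closedPoint Ω)}).Finite := by
  refine ((finite_support_famIdeal x σ).image (PTmap pbar (pt x c))).subset ?_
  rintro z ⟨hz, hz'⟩
  let o : ↥(Over.mk x).left := IsLocalRing.closedPoint Ω
  have ho : pullback.fst (AL x).hom pbar z = (pt x c).left o := hz'
  obtain ⟨w, hw, -⟩ := Scheme.Pullback.exists_preimage_pullback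
    (f := pullback.fst (AL x).hom pbar) (g := (pt x c).left) z o ho
  refine ⟨(isPullback_PTmap (pbar := pbar) (pt x c)).isoPullback.inv w, ?_, ?_⟩
  · rw [← hI, Scheme.IdealSheafData.support_comap]
    change PTmap pbar (pt x c) _ ∈ I.support
    rw [← Scheme.Hom.comp_apply, IsPullback.isoPullback_inv_fst, hw]
    exact hz
  · rw [← Scheme.Hom.comp_apply, IsPullback.isoPullback_inv_fst, hw]

end Main

section Final

variable {S P Y X : Scheme.{u}} (pbar : P ⟶ S) (i : Y ⟶ P) (j : X ⟶ P)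
variable [IsProper pbar] [IsOpenImmersion j] [SmoothOfRelativeDimension 1 (j ≫ pbar)]

theorem pencilStmt (hij : Set.range j.base = (Set.range i.base)ᶜ) : H494.PencilStmt pbar i j := by
  intro Ω _ _ x m n σ τ hdat
  obtain ⟨ι, O, A, B, hO, hA, hB, hAB, hY⟩ := hdat
  obtain ⟨I, hI, hI0, hI1⟩ := exists_pencil x σ τ O A B hO hA hB hAB
  have hcov : ∀ y : PT pbar (AL x), ∃ a, y ∈ PTmap pbar (alq x) ⁻¹ᵁ O a := fun y => hO _
  have hsupp := support_pencil x i hij τ O A B hO hB hY I hI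
  -- the good locus
  let U : (AL x).left.Opens := ⟨{t | ((I.support : Set (PT pbar (AL x))) ∩
    pullback.fst (AL x).hom pbar ⁻¹' {t}).Finite}, isOpen_finite_fibres _ I⟩
  have hU0 : (pt x (0 : Ω)).left (IsLocalRing.closedPoint Ω) ∈ U := finite_fibre_pt x τ 0 I hI0
  have hU1 : (pt x (1 : Ω)).left (IsLocalRing.closedPoint Ω) ∈ U := finite_fibre_pt x σ 1 I hI1
  let U₁ : Over S := Over.mk (U.ι ≫ (AL x).hom)
  let ιU : U₁ ⟶ AL x := Over.homMk U.ι rfl
  let J := I.comap (PTmap pbar ιU)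
  have hιU : IsOpenImmersion (PTmap pbar ιU) :=
    MorphismProperty.of_isPullback (isPullback_PTmap (pbar := pbar) ιU).flip
      (inferInstanceAs (IsOpenImmersion U.ι))
  have hJsupp : ∀ y ∈ J.support, pullback.snd U₁.hom pbar y ∈ Set.range j := by
    intro y hy
    have hy' : y ∈ ((I.comap (PTmap pbar ιU)).support : Set _) := hy
    rw [Scheme.IdealSheafData.support_comap] at hy'
    have := hsupp _ hy'
    rwa [← Scheme.Hom.comp_apply, H494.PTmap_snd] at this
  have hJfin : ∀ t : U₁.left,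
      ((J.support : Set (PT pbar U₁)) ∩ pullback.fst U₁.hom pbar ⁻¹' {t}).Finite := by
    intro t
    refine Set.Finite.of_finite_image (f := PTmap pbar ιU) (Set.Finite.subset t.2 ?_)
      (PTmap pbar ιU).isOpenEmbedding.injective.injOn
    rintro _ ⟨z, ⟨hz, hz'⟩, rfl⟩
    refine ⟨?_, ?_⟩
    · have hz1 : z ∈ ((I.comap (PTmap pbar ιU)).support : Set _) := hz
      rw [Scheme.IdealSheafData.support_comap] at hz1
      exact hz1
    · have : pullback.fst U₁.hom pbar z = t := hz'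
      change pullback.fst (AL x).hom pbar (PTmap pbar ιU z) = t.1
      rw [← Scheme.Hom.comp_apply, H494.PTmap_fst, Scheme.Hom.comp_apply, this]
      rfl
  have := smooth_XT (pbar := pbar) (j := j) U₁
  have hflf : Mor2.IsFinLocFree (J.subschemeι ≫ pullback.fst U₁.hom pbar) :=
    isFinLocFree (pullback.fst U₁.hom pbar) (pullback.fst (pullback.snd U₁.hom pbar) j) J
      ((EqnOn.locPrin hcov hI).comap _) (fun y hy => (mem_range_XT U₁ y).mpr (hJsupp y hy)) hJfin
  -- the degree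
  let o : ↥(Over.mk x).left := IsLocalRing.closedPoint Ω
  have hne : Nonempty U.toScheme := ⟨⟨_, hU0⟩⟩
  have hint : IsIntegral (AL x).left := inferInstanceAs (IsIntegral (Spec (CommRingCat.of (Polynomial Ω))))
  have hint' : IsIntegral U.toScheme := isIntegral_of_isOpenImmersion U.ι
  have hirr : IrreducibleSpace U.toScheme := inferInstance
  have hdeg : ∃ d : ℕ, Mor2.IsFinLocFreeOfDeg d (J.subschemeι ≫ pullback.fst U₁.hom pbar) := by
    obtain ⟨h1, h2, h3⟩ := hflf
    have hpre : PreconnectedSpace U₁.left := inferInstanceAs (PreconnectedSpace U.toScheme)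
    exact ⟨(J.subschemeι ≫ pullback.fst U₁.hom pbar).finrank ⟨_, hU0⟩, ⟨h1, h2, h3⟩, fun y =>
      (Scheme.Hom.isLocallyConstant_finrank
        (f := J.subschemeι ≫ pullback.fst U₁.hom pbar)).apply_eq_of_preconnectedSpace y ⟨_, hU0⟩⟩
  obtain ⟨d, hd⟩ := hdeg
  obtain ⟨T', g, ⟨g1, g2, g3⟩, gs, ρ, hρ⟩ := exists_split_PT J hJsupp d hd
  -- points
  have hpt : ∀ (c : Ω) (hc : (pt x c).left o ∈ U) (z : T'.left), g.left z = (⟨_, hc⟩ : U.toScheme) →
      ∃ p : Over.mk x ⟶ T', p ≫ g ≫ ιU = pt x c ∧ Set.range p.left ⊆ {z} := by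
    intro c hc z hz
    have hr : Set.range (pt x c).left ⊆ Set.range U.ι := by
      rintro _ ⟨w, rfl⟩
      have hw : w = o := Subsingleton.elim (α := PrimeSpectrum Ω) _ _
      rw [hw]
      exact ⟨⟨_, hc⟩, rfl⟩
    let l : Spec (CommRingCat.of Ω) ⟶ U.toScheme := IsOpenImmersion.lift U.ι (pt x c).left hr
    have hl : l ≫ U.ι = (pt x c).left := IsOpenImmersion.lift_fac _ _ _
    obtain ⟨p, hp, hpz⟩ := exists_point g.left l z (by
      rw [hz]
      apply Subtype.ext
      have := congr($hl o)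
      rw [Scheme.Hom.comp_apply] at this
      exact this.symm)
    have hw : p ≫ T'.hom = (Over.mk x).hom := by
      have e1 : T'.hom = g.left ≫ U.ι ≫ (AL x).hom := (Over.w g).symm
      rw [e1, ← Category.assoc, hp, ← Category.assoc, hl]
      exact Over.w (pt x c)
    refine ⟨Over.homMk p hw, ?_, ?_⟩
    · ext1
      simp only [Over.comp_left, Over.homMk_left]
      rw [← Category.assoc, hp]
      exact hl
    · rintro _ ⟨w, rfl⟩
      exact hpz w
  -- ideals at points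
  have hid : ∀ (c : Ω) (p : Over.mk x ⟶ T') (_ : p ≫ g ≫ ιU = pt x c),
      famIdeal (fun a => p ≫ ρ a) = I.comap (PTmap pbar (pt x c)) := by
    intro c p hp
    rw [← famIdeal_comap, ← hρ]
    simp only [J]
    rw [← Scheme.IdealSheafData.comap_comp, ← Scheme.IdealSheafData.comap_comp, ← PTmap_comp,
      ← PTmap_comp, Category.assoc, hp]
  have hq : ∀ (c : Ω) (p : Over.mk x ⟶ T') (_ : p ≫ g ≫ ιU = pt x c),
      p ≫ ((g ≫ ιU) ≫ alq x) = 𝟙 _ := by
    intro c p hp
    rw [← Category.assoc, hp, pt_alq]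
  -- the point over `1`
  obtain ⟨z1, hz1⟩ := g.left.surjective (⟨_, hU1⟩ : U.toScheme)
  obtain ⟨p1, hp1, -⟩ := hpt 1 hU1 z1 hz1
  obtain ⟨e1, he1⟩ := exists_equiv_of_famIdeal_eq (fun a => p1 ≫ ρ a) σ ((hid 1 p1 hp1).trans hI1)
  have hdm : d = m := by simpa using Fintype.card_congr e1
  subst hdm
  refine ⟨T', (g ≫ ιU) ≫ alq x, ρ, ?_, ⟨p1, hq 1 p1 hp1, e1.symm, fun a => ?_⟩, ?_⟩
  · refine ⟨ι, fun a => PTmap pbar (g ≫ ιU) ⁻¹ᵁ (PTmap pbar (alq x) ⁻¹ᵁ O a),
      fun a => ((PTmap pbar (g ≫ ιU)).app _).hom (pen x (A a) (B a)),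
      fun a => ((PTmap pbar (g ≫ ιU)).app _).hom (((PTmap pbar (alq x)).app (O a)).hom (B a)),
      fun y => hO _, fun a => ?_, fun a => ?_, fun a b W ha hb => ?_, fun a => ?_⟩
    · rw [isEqn_iff, ← hρ]
      have : J.comap (PTmap pbar g) = I.comap (PTmap pbar (g ≫ ιU)) := by
        rw [PTmap_comp, Scheme.IdealSheafData.comap_comp]
      rw [this]
      exact (hI a).comap _
    · have := isEqn_pull (g ≫ ιU) (isEqn_pull (alq x) (hB a))
      simp only [← Category.assoc] at this ⊢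
      exact this
    · refine rel_app (PTmap pbar (g ≫ ιU)) (fun V h₁ h₂ => ?_) W ha hb
      exact rel_pen x (hAB a b) V h₁ h₂
    · exact H494.yinc_pull i (g ≫ ιU) (yinc_pen x i (hY a))
  · have := he1 (e1.symm a)
    rw [Equiv.apply_symm_apply] at this
    exact this
  · intro C hC hCne
    have hpre : PreconnectedSpace U₁.left := inferInstanceAs (PreconnectedSpace U.toScheme)
    have h1 : IsClopen (g.left '' C) := ⟨g.left.isClosedMap _ hC.1, g.left.isOpenMap _ hC.2⟩
    have h2 : g.left '' C = Set.univ := h1.eq_univ (hCne.image _)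
    obtain ⟨z, hzC, hz⟩ : (⟨_, hU0⟩ : U.toScheme) ∈ g.left '' C := by rw [h2]; trivial
    obtain ⟨p, hp, hpz⟩ := hpt 0 hU0 z hz
    obtain ⟨e, he⟩ := exists_equiv_of_famIdeal_eq (fun a => p ≫ ρ a) τ ((hid 0 p hp).trans hI0)
    exact ⟨p, hq 0 p hp, hpz.trans (Set.singleton_subset_iff.mpr hzC), e, he⟩

end Final

end Groth.Agent.Etdl.H157.Pencil
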