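import Groth.Agent.Etdl.H157.PencilA

/-!
# The cocycle of a finite family of sections

* `exists_unit`: two equations of an effective Cartier divisor differ by a unit.
* `exists_eqns`: local equations of `∑ σ a` on an open cover of `P_T`, equal to `1` on `Y_T`.
* `exists_cocycle`: the cocycle `A a = u a b * A b`.
-/

set_option autoImplicit false
universe u

open CategoryTheory CategoryTheory.Limits AlgebraicGeometry

namespace Groth.Agent.Etdl.H157.DivCoc

open Groth.Agent.Picfga.SecGraph Groth.Agent.Picfga.HilbPull Groth.Agent.Divis.IdealComap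
open Groth.Agent.Divis.EffCartier
open Groth.Agent.Etdl.H157.Split Groth.Agent.Etdl.H157.Div Groth.Agent.Etdl.H157.SplitP
open Groth.Agent.Etdl.H157.PencilA
open Groth.Agent.Etdl.H494 (PT PTmap XS graph graph_fst graph_snd IsEqn yinc Cocycle)

section Unit

variable {W : Scheme.{u}}

lemma unit_unique {I : W.IdealSheafData} (hI : BlowUp.IsEffCartierIdeal I) {O : W.Opens}
    {B : Γ(W, O)} (hB : EqnOn I O B) {V : W.Opens} (hV : V ≤ O) {u v : Γ(W, V)}
    (h : u * Div.res hV B = v * Div.res hV B) : u = v :=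
  (mul_cancel_right_mem_nonZeroDivisors (nonZeroDivisor_of_eqnOn hI hB V hV)).mp h

/-- Two equations of an effective Cartier divisor differ by a function. -/
lemma exists_mul_eq {I : W.IdealSheafData} (hI : BlowUp.IsEffCartierIdeal I) {O : W.Opens}
    {A B : Γ(W, O)} (hA : EqnOn I O A) (hB : EqnOn I O B) : ∃ u : Γ(W, O), A = u * B := by
  let κ := {U : W.affineOpens // U.1 ≤ O}
  have hloc : ∀ U : κ, ∃ v : Γ(W, U.1.1), Div.res U.2 A = v * Div.res U.2 B := by
    intro U
    have h : Div.res U.2 A ∈ Ideal.span {Div.res U.2 B} := by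
      rw [← hB U.1 U.2, hA U.1 U.2]
      exact Ideal.mem_span_singleton_self _
    obtain ⟨v, hv⟩ := Ideal.mem_span_singleton'.mp h
    exact ⟨v, hv.symm⟩
  choose v hv using hloc
  have hcov : O ≤ ⨆ U : κ, U.1.1 := by
    intro x hx
    obtain ⟨U, hU, hxU, hUO⟩ := exists_isAffineOpen_mem_and_subset (U := O) (x := x) hx
    exact TopologicalSpace.Opens.mem_iSup.mpr ⟨⟨⟨U, hU⟩, hUO⟩, hxU⟩
  obtain ⟨u, hu, -⟩ := TopCat.Sheaf.existsUnique_gluing' W.sheaf (fun U : κ => U.1.1) O
    (fun U => homOfLE U.2) hcov v (by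
      intro U V
      have hU : U.1.1 ⊓ V.1.1 ≤ O := inf_le_left.trans U.2
      refine unit_unique hI hB hU (V := U.1.1 ⊓ V.1.1) ?_
      change Div.res (inf_le_left : U.1.1 ⊓ V.1.1 ≤ U.1.1) (v U) * _ =
        Div.res (inf_le_right : U.1.1 ⊓ V.1.1 ≤ V.1.1) (v V) * _
      rw [← res_res (inf_le_left : U.1.1 ⊓ V.1.1 ≤ U.1.1) U.2 B, ← map_mul, ← hv U,
        res_res, res_res, ← res_res (inf_le_right : U.1.1 ⊓ V.1.1 ≤ V.1.1) V.2 B, ← map_mul, ← hv V, res_res])
  obtain ⟨u', hu'⟩ : ∃ u' : Γ(W, O), ∀ U : κ, Div.res U.2 u' = v U := ⟨u, hu⟩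
  refine ⟨u', ?_⟩
  let C : Γ(W, O) := u' * B
  refine TopCat.Sheaf.eq_of_locally_eq' W.sheaf (fun U : κ => U.1.1) O (fun U => homOfLE U.2) hcov
    A C (fun U => ?_)
  change Div.res U.2 A = Div.res U.2 (u' * B)
  rw [map_mul, hv U, hu']

lemma exists_unit {I : W.IdealSheafData} (hI : BlowUp.IsEffCartierIdeal I) {O : W.Opens}
    {A B : Γ(W, O)} (hA : EqnOn I O A) (hB : EqnOn I O B) : ∃ u : Γ(W, O), IsUnit u ∧ A = u * B := by
  obtain ⟨u, hu⟩ := exists_mul_eq hI hA hB
  obtain ⟨v, hv⟩ := exists_mul_eq hI hB hA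
  refine ⟨u, IsUnit.of_mul_eq_one v ?_, hu⟩
  refine unit_unique hI hA le_rfl ?_
  have e : Div.res (le_refl O) A = A := by
    simp only [Div.res]
    have : (homOfLE (le_refl O)).op = 𝟙 _ := rfl
    rw [this, W.presheaf.map_id]; rfl
  rw [e, one_mul, mul_assoc, ← hv, ← hu]

end Unit

section Coc

variable {S P Y X : Scheme.{u}} {pbar : P ⟶ S} {i : Y ⟶ P} {j : X ⟶ P}
variable [IsSeparated pbar] [IsOpenImmersion j] [SmoothOfRelativeDimension 1 (j ≫ pbar)]

/-- Local equations of `∑ σ a`, equal to `1` on `Y_T`. -/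
theorem exists_eqns (i : Y ⟶ P) (hij : Disjoint (Set.range j.base) (Set.range i.base)) {T : Over S} {m : ℕ}
    (σ : Fin m → (T ⟶ XS pbar j)) :
    ∃ (O : PT pbar T → (PT pbar T).Opens) (A : ∀ a, Γ(PT pbar T, O a)), (∀ y, y ∈ O y) ∧
      (∀ a, IsEqn σ (O a) (A a)) ∧ ∀ a, ((yinc pbar i T).app (O a)).hom (A a) = 1 := by
  have heff := isEff_famIdeal (pbar := pbar) (j := j) σ
  let XO : (PT pbar T).Opens := (pullback.snd T.hom pbar) ⁻¹ᵁ j.opensRange
  have key : ∀ y : PT pbar T, ∃ (O : (PT pbar T).Opens) (A : Γ(PT pbar T, O)), y ∈ O ∧ IsEqn σ O A ∧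
      ((yinc pbar i T).app O).hom A = 1 := by
    intro y
    by_cases hy : y ∈ XO
    · obtain ⟨U, hyU, hUO, f, hf, hI⟩ := exists_princAt heff y XO hy
      refine ⟨U.1, f, hyU, ?_, ?_⟩
      · rw [isEqn_iff]
        intro V hV
        rw [S1184.ideal_eq_span_of_le (famIdeal σ) (show V ≤ U from hV) f hI]
      · have hempty : (yinc pbar i T) ⁻¹ᵁ U.1 = ⊥ := by
          ext z
          simp only [TopologicalSpace.Opens.coe_bot, Set.mem_empty_iff_false, iff_false]
          intro hz
          have hz' : yinc pbar i T z ∈ XO := hUO hz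
          have h1 : pullback.snd T.hom pbar (yinc pbar i T z) ∈ Set.range j.base := hz'
          have h2 : pullback.snd T.hom pbar (yinc pbar i T z) ∈ Set.range i.base := by
            refine ⟨pullback.snd (pullback.snd T.hom pbar) i z, ?_⟩
            rw [← Scheme.Hom.comp_apply, ← Scheme.Hom.comp_apply, pullback.condition]
          exact Set.disjoint_left.mp hij h1 h2
        have hsub : Subsingleton ↑Γ(pullback (pullback.snd T.hom pbar) i, (yinc pbar i T) ⁻¹ᵁ U.1) := by
          rw [hempty]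
          infer_instance
        exact Subsingleton.elim _ _
    · have hns : y ∉ (famIdeal σ).support := fun h => hy (by
        obtain ⟨w, hw⟩ := support_famIdeal σ h
        exact ⟨w, hw⟩)
      refine ⟨(famIdeal σ).support.compl, 1, hns, ?_, map_one _⟩
      rw [isEqn_iff]
      intro V hV
      rw [ideal_eq_top_of_disjoint _ V fun z hz => hV hz, map_one, Ideal.span_singleton_one]
  choose O A hO hA hY using key
  exact ⟨O, A, hO, hA, hY⟩

/-- The cocycle of local equations, `A a = u a b * A b`. -/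
noncomputable def mkCocycle {T : Over S} {m : ℕ} (σ : Fin m → (T ⟶ XS pbar j)) {ι : Type u}
    (O : ι → (PT pbar T).Opens) (hO : ∀ y : PT pbar T, ∃ a, y ∈ O a) (A : ∀ a, Γ(PT pbar T, O a))
    (hA : ∀ a, IsEqn σ (O a) (A a)) (hY : ∀ a, ((yinc pbar i T).app (O a)).hom (A a) = 1) :
    Cocycle pbar i T :=
  have heff := isEff_famIdeal (pbar := pbar) (j := j) σ
  have key : ∀ a b, ∃ u : Γ(PT pbar T, O a ⊓ O b), IsUnit u ∧
      Div.res inf_le_left (A a) = u * Div.res inf_le_right (A b) := fun a b =>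
    exists_unit heff (((isEqn_iff _ _ _).mp (hA a)).res inf_le_left)
      (((isEqn_iff _ _ _).mp (hA b)).res inf_le_right)
  { A := ι
    V := O
    cover := hO
    u := fun a b => Classical.choose (key a b)
    isUnit := fun a b => (Classical.choose_spec (key a b)).1
    one := fun a b => by
      have h1 := congrArg ((yinc pbar i T).app (O a ⊓ O b)).hom (Classical.choose_spec (key a b)).2
      have h2 : ∀ (c : ι) (h : O a ⊓ O b ≤ O c),
          ((yinc pbar i T).app (O a ⊓ O b)).hom (Div.res h (A c)) = 1 := by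
        intro c h
        simp only [Div.res]
        rw [← CommRingCat.comp_apply, Scheme.Hom.naturality, CommRingCat.comp_apply]
        erw [hY c]
        exact map_one _
      rw [map_mul, h2, h2, mul_one] at h1
      exact h1.symm
    cocycle := fun a b c V ha hb hc => by
      refine unit_unique heff ((isEqn_iff _ _ _).mp (hA c)) hc ?_
      have e : ∀ (a b : ι) (ha : V ≤ O a) (hb : V ≤ O b), Div.res ha (A a) =
          H494.res (le_inf ha hb) (Classical.choose (key a b)) * Div.res hb (A b) := by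
        intro a b ha hb
        have h1 := congrArg (Div.res (le_inf ha hb : V ≤ O a ⊓ O b)) (Classical.choose_spec (key a b)).2
        rw [map_mul, res_res, res_res] at h1
        exact h1
      rw [mul_assoc, ← e b c hb hc, ← e a b ha hb, ← e a c ha hc] }

lemma mkCocycle_spec {T : Over S} {m : ℕ} (σ : Fin m → (T ⟶ XS pbar j)) {ι : Type u}
    (O : ι → (PT pbar T).Opens) (hO : ∀ y : PT pbar T, ∃ a, y ∈ O a) (A : ∀ a, Γ(PT pbar T, O a))
    (hA : ∀ a, IsEqn σ (O a) (A a)) (hY : ∀ a, ((yinc pbar i T).app (O a)).hom (A a) = 1) (a b : ι) :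
    Div.res inf_le_left (A a) = (mkCocycle σ O hO A hA hY).u a b * Div.res inf_le_right (A b) :=
  (Classical.choose_spec (exists_unit (isEff_famIdeal (pbar := pbar) (j := j) σ)
    (((isEqn_iff _ _ _).mp (hA a)).res inf_le_left) (((isEqn_iff _ _ _).mp (hA b)).res inf_le_right))).2

end Coc

end Groth.Agent.Etdl.H157.DivCoc
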