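import Groth.Agent.Etdl.H157.SplitP
import Groth.Agent.Divis.EffCartier
import Mathlib.AlgebraicGeometry.AlgClosed.Basic

/-!
# Preparations for the pencil argument

* `eq_of_eqnOn`: ideal sheaves with the same local equations agree.
* `nonZeroDivisor_of_eqnOn`: local equations of effective Cartier divisors are nonzerodivisors.
* `isEff_famIdeal`.
* `exists_equiv_of_famIdeal_eq`: over an algebraically closed field the divisor determines the family.
* `exists_point`: points of finite schemes over an algebraically closed field.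
-/

set_option autoImplicit false
universe u

open CategoryTheory CategoryTheory.Limits AlgebraicGeometry

namespace Groth.Agent.Etdl.H157.PencilA

open Groth.Agent.Picfga.SecGraph Groth.Agent.Picfga.HilbPull Groth.Agent.Divis.IdealComap
open Groth.Agent.Divis.EffCartier
open Groth.Agent.Etdl.H157.Split Groth.Agent.Etdl.H157.Div Groth.Agent.Etdl.H157.SplitP
open Groth.Agent.Etdl.H494 (PT PTmap XS graph graph_fst graph_snd IsEqn)

section Eqn

variable {W : Scheme.{u}}

lemma eq_of_eqnOn {I J : W.IdealSheafData} {ι : Type*} {O : ι → W.Opens} (hO : ∀ x, ∃ a, x ∈ O a)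
    {A : ∀ a, Γ(W, O a)} (hI : ∀ a, EqnOn I (O a) (A a)) (hJ : ∀ a, EqnOn J (O a) (A a)) : I = J := by
  refine ext_of_forall_mem fun x => ?_
  obtain ⟨a, ha⟩ := hO x
  obtain ⟨U, hU, hxU, hUO⟩ := exists_isAffineOpen_mem_and_subset (U := O a) (x := x) ha
  exact ⟨⟨U, hU⟩, hxU, by rw [hI a ⟨U, hU⟩ hUO, hJ a ⟨U, hU⟩ hUO]⟩

lemma nonZeroDivisor_of_span_eq {R : Type*} [CommRing R] {f g : R} (hf : f ∈ nonZeroDivisors R)
    (h : Ideal.span {g} = Ideal.span {f}) : g ∈ nonZeroDivisors R := by
  obtain ⟨c, hc⟩ := Ideal.mem_span_singleton'.mp (h ▸ Ideal.mem_span_singleton_self g)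
  obtain ⟨d, hd⟩ := Ideal.mem_span_singleton'.mp (h.symm ▸ Ideal.mem_span_singleton_self f)
  have h1 : (d * c) * f = 1 * f := by rw [one_mul, mul_assoc, hc, hd]
  have h2 : d * c = 1 := (mul_cancel_right_mem_nonZeroDivisors hf).mp h1
  have hu : IsUnit c := IsUnit.of_mul_eq_one d (by rw [mul_comm]; exact h2)
  rw [← hc]
  exact mul_mem hu.mem_nonZeroDivisors hf

/-- Local equations of effective Cartier divisors are nonzerodivisors. -/
lemma nonZeroDivisor_of_eqnOn {I : W.IdealSheafData} (hI : BlowUp.IsEffCartierIdeal I) {O : W.Opens}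
    {A : Γ(W, O)} (h : EqnOn I O A) (V : W.Opens) (hV : V ≤ O) :
    Div.res hV A ∈ nonZeroDivisors Γ(W, V) := by
  rw [mem_nonZeroDivisors_iff_right]
  intro s hs
  have key : ∀ x ∈ V, ∃ U : W.affineOpens, x ∈ U.1 ∧ ∃ (hU : U.1 ≤ V), Div.res hU s = 0 := by
    intro x hx
    obtain ⟨U, hxU, hU, f, hf, hIf⟩ := exists_princAt hI x V hx
    refine ⟨U, hxU, hU, ?_⟩
    have h1 := h U (hU.trans hV)
    rw [hIf] at h1
    have h2 := nonZeroDivisor_of_span_eq hf h1.symm
    have h3 : Div.res hU s * Div.res (hU.trans hV) A = 0 := by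
      rw [← res_res hU hV A, ← map_mul, hs, map_zero]
    exact (mem_nonZeroDivisors_iff_right.mp h2) _ h3
  choose U hxU hU hs' using key
  refine TopCat.Sheaf.eq_of_locally_eq' W.sheaf (fun x : V => (U x.1 x.2).1) V
    (fun x => homOfLE (hU x.1 x.2)) (fun x hx => TopologicalSpace.Opens.mem_iSup.mpr ⟨⟨x, hx⟩, hxU x hx⟩)
    s 0 (fun x => ?_)
  have e1 := hs' x.1 x.2
  have e2 : (W.presheaf.map (homOfLE (hU x.1 x.2)).op).hom (0 : Γ(W, V)) = 0 := map_zero _
  exact e1.trans e2.symm

/-- Two equations of the same effective Cartier divisor, with a relation. -/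
lemma span_eq_of_relation {R : Type*} [CommRing R] {a b a' b' t : R}
    (hb' : b' ∈ nonZeroDivisors R) (h : Ideal.span {b} = Ideal.span {b'}) (hr : a * b' = a' * b) :
    Ideal.span {(1 - t) * b + t * a} = Ideal.span {(1 - t) * b' + t * a'} := by
  obtain ⟨c, hc⟩ := Ideal.mem_span_singleton'.mp (h ▸ Ideal.mem_span_singleton_self b)
  obtain ⟨d, hd⟩ := Ideal.mem_span_singleton'.mp (h.symm ▸ Ideal.mem_span_singleton_self b')
  have h2 : d * c = 1 := by
    have h1 : (d * c) * b' = 1 * b' := by rw [one_mul, mul_assoc, hc, hd]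
    exact (mul_cancel_right_mem_nonZeroDivisors hb').mp h1
  have hu : IsUnit c := IsUnit.of_mul_eq_one d (by rw [mul_comm]; exact h2)
  have h3 : a = c * a' := by
    have : a * b' = (c * a') * b' := by rw [hr, ← hc]; ring
    exact (mul_cancel_right_mem_nonZeroDivisors hb').mp this
  have h4 : (1 - t) * b + t * a = c * ((1 - t) * b' + t * a') := by rw [h3, ← hc]; ring
  rw [h4, Ideal.span_singleton_mul_left_unit hu]

end Eqn

section Eff

variable {S P Y X : Scheme.{u}} {pbar : P ⟶ S} {j : X ⟶ P}

lemma isEff_prod {W : Scheme.{u}} {ι : Type*} (s : Finset ι) (I : ι → W.IdealSheafData)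
    (h : ∀ i ∈ s, BlowUp.IsEffCartierIdeal (I i)) : BlowUp.IsEffCartierIdeal (∏ i ∈ s, I i) := by
  classical
  induction s using Finset.induction_on with
  | empty =>
    rw [Finset.prod_empty, Scheme.IdealSheafData.one_eq_top]
    exact isEff_top
  | insert a s ha ih =>
    rw [Finset.prod_insert ha]
    exact isEff_mul (h a (Finset.mem_insert_self _ _)) (ih fun i hi => h i (Finset.mem_insert_of_mem hi))

lemma isEff_of_comap {W W₀ : Scheme.{u}} (jj : W₀ ⟶ W) [IsOpenImmersion jj] {I : W.IdealSheafData}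
    (h : (I.support : Set W) ⊆ Set.range jj) (hI : BlowUp.IsEffCartierIdeal (I.comap jj)) :
    BlowUp.IsEffCartierIdeal I := by
  intro x
  by_cases hx : x ∈ I.support
  · obtain ⟨w, rfl⟩ := h hx
    obtain ⟨V, hwV, a, ha, hIa⟩ := hI w
    refine ⟨⟨jj ''ᵁ V.1, V.2.image_of_isOpenImmersion jj⟩, ⟨w, hwV, rfl⟩, (jj.appIso V.1).inv.hom a, ?_, ?_⟩
    · exact map_mem_nonZeroDivisors_of_flat _ (RingHom.Flat.of_bijective
        (ConcreteCategory.bijective_of_isIso (jj.appIso V.1).inv)) ha
    · have h1 := ideal_comap_of_isOpenImmersion I jj ⟨jj ''ᵁ V.1, V.2.image_of_isOpenImmersion jj⟩ V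
        (jj.preimage_image_eq V.1).ge
      rw [hIa, ← Scheme.Hom.appIso_hom'] at h1
      have h2 := congr(Ideal.map (jj.appIso V.1).inv.hom $h1)
      rw [Ideal.map_map, ← CommRingCat.hom_comp, Iso.hom_inv_id, Ideal.map_span, Set.image_singleton] at h2
      rw [h2]
      simp
  · obtain ⟨U, hU, hxU, hle⟩ := exists_isAffineOpen_mem_and_subset (U := I.support.compl) (x := x) hx
    refine ⟨⟨U, hU⟩, hxU, 1, one_mem _, ?_⟩
    rw [ideal_eq_top_of_disjoint I ⟨U, hU⟩ fun y hy => hle hy, Ideal.span_singleton_one]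

variable [IsSeparated pbar] [IsOpenImmersion j] [SmoothOfRelativeDimension 1 (j ≫ pbar)]

lemma isEff_ker_graph {T : Over S} (σ : T ⟶ XS pbar j) : BlowUp.IsEffCartierIdeal (graph σ).ker := by
  have hsm := smooth_XT (pbar := pbar) (j := j) T
  let jj := pullback.fst (pullback.snd T.hom pbar) j
  have hsupp : ((graph σ).ker.support : Set (PT pbar T)) ⊆ Set.range jj := by
    intro x hx
    rw [mem_range_XT]
    exact range_graph_subset σ ((mem_support_ker _ x).mp hx)
  refine isEff_of_comap jj hsupp ?_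
  obtain ⟨e, he, hej⟩ := exists_iso_comap jj (graph σ).ker hsupp
  have e1 : ((graph σ).ker.comap jj).subschemeι ≫ jj ≫ pullback.fst T.hom pbar =
      e ≫ (graph σ).ker.subschemeι ≫ pullback.fst T.hom pbar := by
    rw [← Category.assoc, ← hej, Category.assoc]
  have h1 : Mor2.IsFinLocFreeOfDeg 1 (((graph σ).ker.comap jj).subschemeι ≫ jj ≫ pullback.fst T.hom pbar) := by
    rw [e1]
    exact isFinLocFreeOfDeg_comp_iso (isFinLocFreeOfDeg_ker_section (graph σ) _ (graph_fst σ))
  exact ((S1184.result (jj ≫ pullback.fst T.hom pbar) _).2 h1.1).1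

lemma isEff_famIdeal {T : Over S} {m : ℕ} (σ : Fin m → (T ⟶ XS pbar j)) :
    BlowUp.IsEffCartierIdeal (famIdeal σ) :=
  isEff_prod _ _ fun _ _ => isEff_ker_graph _

end Eff

/-! ### Algebraically closed fields -/

section Alg

variable {S P Y X : Scheme.{u}} {pbar : P ⟶ S} {j : X ⟶ P}
  [IsSeparated pbar] [LocallyOfFiniteType pbar] [IsOpenImmersion j] [SmoothOfRelativeDimension 1 (j ≫ pbar)]

variable {Ω : Type u} [Field Ω] [IsAlgClosed Ω] {x : Spec (CommRingCat.of Ω) ⟶ S}

omit [IsSeparated pbar] [SmoothOfRelativeDimension 1 (j ≫ pbar)] in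
lemma eq_of_graph_apply_eq {σ τ : Over.mk x ⟶ XS pbar j}
    (h : graph σ (IsLocalRing.closedPoint Ω) = graph τ (IsLocalRing.closedPoint Ω)) : σ = τ := by
  have h1 : graph σ = graph τ := ext_of_apply_closedPoint_eq (pullback.fst (Over.mk x).hom pbar)
    (graph_fst σ) (graph_fst τ) h
  have h2 : σ.left ≫ j = τ.left ≫ j := by rw [← graph_snd, ← graph_snd, h1]
  ext1
  rwa [cancel_mono] at h2

omit [IsSeparated pbar] [SmoothOfRelativeDimension 1 (j ≫ pbar)] [LocallyOfFiniteType pbar]
  [IsOpenImmersion j] [IsAlgClosed Ω] in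
lemma range_graph (σ : Over.mk x ⟶ XS pbar j) :
    Set.range (graph σ) = {graph σ (IsLocalRing.closedPoint Ω)} := by
  ext y
  constructor
  · rintro ⟨z, rfl⟩
    have : z = IsLocalRing.closedPoint Ω := Subsingleton.elim (α := PrimeSpectrum Ω) _ _
    rw [this]; rfl
  · rintro rfl
    exact ⟨_, rfl⟩

omit [IsSeparated pbar] [IsAlgClosed Ω] [LocallyOfFiniteType pbar] [IsOpenImmersion j]
  [SmoothOfRelativeDimension 1 (j ≫ pbar)] in
lemma mem_support_multiset_prod (M : Multiset (Over.mk x ⟶ XS pbar j)) (y : PT pbar (Over.mk x)) :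
    y ∈ (M.map fun σ => (graph σ).ker).prod.support ↔ ∃ σ ∈ M, y ∈ (graph σ).ker.support := by
  induction M using Multiset.induction_on with
  | empty =>
    simp only [Multiset.map_zero, Multiset.prod_zero, Scheme.IdealSheafData.one_eq_top,
      Scheme.IdealSheafData.support_top, Multiset.notMem_zero, false_and, exists_false, iff_false]
    exact fun h => h
  | cons a M ih =>
    rw [Multiset.map_cons, Multiset.prod_cons, Scheme.IdealSheafData.support_mul]
    constructor
    · rintro (h | h)
      · exact ⟨a, Multiset.mem_cons_self _ _, h⟩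
      · obtain ⟨i, hi, hx⟩ := ih.mp h
        exact ⟨i, Multiset.mem_cons_of_mem hi, hx⟩
    · rintro ⟨i, hi, hx⟩
      obtain rfl | hi := Multiset.mem_cons.mp hi
      · exact Or.inl hx
      · exact Or.inr (ih.mpr ⟨i, hi, hx⟩)

/-- Over an algebraically closed field a product of ideals of sections determines the family. -/
theorem multiset_eq (M N : Multiset (Over.mk x ⟶ XS pbar j))
    (h : (M.map fun σ => (graph σ).ker).prod = (N.map fun σ => (graph σ).ker).prod) : M = N := by
  classical
  induction M using Multiset.induction_on generalizing N with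
  | empty =>
    rw [Multiset.map_zero, Multiset.prod_zero] at h
    induction N using Multiset.induction_on with
    | empty => rfl
    | cons a N _ =>
      exfalso
      rw [Multiset.map_cons, Multiset.prod_cons] at h
      have h1 : (graph a (IsLocalRing.closedPoint Ω)) ∈
          ((graph a).ker * (N.map fun σ => (graph σ).ker).prod).support := by
        rw [Scheme.IdealSheafData.support_mul]
        exact Or.inl ((mem_support_ker _ _).mpr ⟨_, rfl⟩)
      rw [← h] at h1
      exact h1
  | cons a M ih =>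
    rw [Multiset.map_cons, Multiset.prod_cons] at h
    have h1 : (graph a (IsLocalRing.closedPoint Ω)) ∈
        ((graph a).ker * (M.map fun σ => (graph σ).ker).prod).support := by
      rw [Scheme.IdealSheafData.support_mul]
      exact Or.inl ((mem_support_ker _ _).mpr ⟨_, rfl⟩)
    rw [h, mem_support_multiset_prod] at h1
    obtain ⟨b, hb, hab⟩ := h1
    rw [mem_support_ker, range_graph] at hab
    obtain rfl : a = b := eq_of_graph_apply_eq hab
    rw [← Multiset.cons_erase hb, Multiset.map_cons, Multiset.prod_cons] at h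
    rw [ih (N.erase a) (mul_left_cancel_of_isEffCartier (isEff_ker_graph a) h), Multiset.cons_erase hb]

theorem exists_equiv_of_famIdeal_eq {m n : ℕ} (σ : Fin m → (Over.mk x ⟶ XS pbar j))
    (τ : Fin n → (Over.mk x ⟶ XS pbar j)) (h : famIdeal σ = famIdeal τ) :
    ∃ e : Fin m ≃ Fin n, ∀ a, σ a = τ (e a) := by
  classical
  have h1 : (Finset.univ.val.map σ : Multiset _) = Finset.univ.val.map τ := by
    apply multiset_eq
    rw [Multiset.map_map, Multiset.map_map]
    exact h
  have hcard : ∀ v, Fintype.card {a // σ a = v} = Fintype.card {b // τ b = v} := by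
    intro v
    have h2 := congrArg (Multiset.count v) h1
    rw [Multiset.count_map, Multiset.count_map] at h2
    rw [Fintype.card_subtype, Fintype.card_subtype, Finset.card_def, Finset.card_def, Finset.filter_val,
      Finset.filter_val]
    simpa only [eq_comm] using h2
  let e : Fin m ≃ Fin n := (Equiv.sigmaFiberEquiv σ).symm.trans
    ((Equiv.sigmaCongrRight fun v => Fintype.equivOfCardEq (hcard v)).trans (Equiv.sigmaFiberEquiv τ))
  refine ⟨e, fun a => ?_⟩
  have := ((Fintype.equivOfCardEq (hcard (σ a))) ⟨a, rfl⟩).2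
  exact this.symm

/-- Points of schemes locally of finite type with closed image. -/
lemma exists_point {T U : Scheme.{u}} (g : U ⟶ T) [IsFinite g] (t : Spec (CommRingCat.of Ω) ⟶ T) (c : U)
    (hc : g c = t (IsLocalRing.closedPoint Ω)) :
    ∃ p : Spec (CommRingCat.of Ω) ⟶ U, p ≫ g = t ∧ ∀ z, p z = c := by
  obtain ⟨c', hc', -⟩ := Scheme.Pullback.exists_preimage_pullback (f := g) (g := t) c _ hc
  have hdisc : _root_.IsDiscrete (Set.univ : Set ↥(pullback g t)) := by
    let pt : ↥(Spec (CommRingCat.of Ω)) := IsLocalRing.closedPoint Ω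
    have huniv : (pullback.snd g t) ⁻¹' {pt} = Set.univ := by
      ext z
      simp only [Set.mem_preimage, Set.mem_univ, iff_true]
      exact Subsingleton.elim (α := PrimeSpectrum Ω) _ _
    rw [← huniv]
    exact Scheme.Hom.isDiscrete_preimage_singleton (pullback.snd g t) pt
  have hdt : DiscreteTopology ↥(pullback g t) := by
    rw [isDiscrete_iff_discreteTopology] at hdisc
    exact (Homeomorph.Set.univ _).symm.isEmbedding.discreteTopology
  have hcl : IsClosed ({c'} : Set ↥(pullback g t)) := isClosed_discrete _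
  refine ⟨pointOfClosedPoint (pullback.snd g t) c' hcl ≫ pullback.fst g t, ?_, fun z => ?_⟩
  · rw [Category.assoc, pullback.condition, pointOfClosedPoint_comp_assoc]
  · rw [Scheme.Hom.comp_apply, pointOfClosedPoint_apply, hc']

end Alg

end Groth.Agent.Etdl.H157.PencilA
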