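import Groth.Agent.S1172
import Groth.Agent.Picfga.SecGraph
import Groth.Agent.Picfga.HilbZero

/-!
# Splitting a relative effective divisor of a smooth relative curve into sections

`p : W ⟶ T` smooth of relative dimension `1` and separated, `I` an ideal sheaf on `W` such that the closed
subscheme is finite locally free of degree `m` over `T`.  After a finite locally free surjective base change
`g : T' ⟶ T` the pulled back ideal is the product of the ideals of `m` sections.
-/

set_option autoImplicit false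
universe u

open CategoryTheory CategoryTheory.Limits AlgebraicGeometry

namespace Groth.Agent.Etdl.H157.Split

open Groth.Agent.Picfga.SecGraph Groth.Agent.Picfga.HilbPull Groth.Agent.Divis.IdealComap

section Comap

variable {X Y : Scheme.{u}}

lemma comap_top' (f : X ⟶ Y) : (⊤ : Y.IdealSheafData).comap f = ⊤ := by
  refine ext_of_forall_mem fun x ↦ ?_
  obtain ⟨U, V, -, hxV, -, -, e⟩ := exists_affine_le f x ⊤ trivial ⊤ trivial
  refine ⟨V, hxV, ?_⟩
  rw [ideal_comap _ f U V e]
  simp [Ideal.map_top]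

/-- The inverse image of ideal sheaves as a monoid homomorphism. -/
noncomputable def comapHom (f : X ⟶ Y) : Y.IdealSheafData →* X.IdealSheafData where
  toFun I := I.comap f
  map_one' := by
    rw [Scheme.IdealSheafData.one_eq_top, Scheme.IdealSheafData.one_eq_top, comap_top']
  map_mul' I J := comap_mul I J f

/-- The closed subscheme of `I.comap q` as a fibre product. -/
lemma exists_isPullback_comap (q : X ⟶ Y) (I : Y.IdealSheafData) :
    ∃ m : (I.comap q).subscheme ⟶ I.subscheme,
      IsPullback m (I.comap q).subschemeι I.subschemeι q :=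
  ⟨(I.comapIso _).hom ≫ pullback.snd _ _,
    (IsPullback.of_iso (IsPullback.of_hasPullback q I.subschemeι)
      (I.comapIso _).symm (Iso.refl _) (Iso.refl _) (Iso.refl _)
      (by simp) (by rw [Iso.refl_hom, Category.comp_id, Iso.symm_hom, Iso.inv_hom_id_assoc])
      (by simp) (by simp)).flip⟩

lemma comap_self (I : Y.IdealSheafData) : I.comap I.subschemeι = ⊥ := by
  have h := comap_ker_self I.subschemeι
  rwa [I.ker_subschemeι] at h

lemma comap_prod {ι : Type*} [Fintype ι] (f : X ⟶ Y) (I : ι → Y.IdealSheafData) :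
    (∏ i, I i).comap f = ∏ i, (I i).comap f :=
  map_prod (comapHom f) I Finset.univ

end Comap

section Sections

variable {W T W' T' : Scheme.{u}} {p : W ⟶ T} {q : W' ⟶ W} {p' : W' ⟶ T'} {g : T' ⟶ T}

/-- A section of a separated morphism is a closed immersion. -/
lemma isClosedImmersion_of_section [IsSeparated p] (s : T ⟶ W) (hs : s ≫ p = 𝟙 T) :
    IsClosedImmersion s := by
  have : IsClosedImmersion (s ≫ p) := by rw [hs]; infer_instance
  exact IsClosedImmersion.of_comp _ p

/-- The base change of a section. -/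
noncomputable def secBC (h : IsPullback q p' p g) (s : T' ⟶ W) (hs : s ≫ p = g) : T' ⟶ W' :=
  h.lift s (𝟙 T') (by simpa using hs)

@[reassoc (attr := simp)]
lemma secBC_fst (h : IsPullback q p' p g) (s : T' ⟶ W) (hs : s ≫ p = g) :
    secBC h s hs ≫ q = s := h.lift_fst _ _ _

@[reassoc (attr := simp)]
lemma secBC_snd (h : IsPullback q p' p g) (s : T' ⟶ W) (hs : s ≫ p = g) :
    secBC h s hs ≫ p' = 𝟙 T' := h.lift_snd _ _ _

lemma secBC_unique (h : IsPullback q p' p g) (s : T' ⟶ W) (hs : s ≫ p = g) (t : T' ⟶ W')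
    (h1 : t ≫ q = s) (h2 : t ≫ p' = 𝟙 T') : t = secBC h s hs := by
  apply h.hom_ext
  · rw [secBC_fst, h1]
  · rw [secBC_snd, h2]

/-- The square of a section and its base change is cartesian. -/
lemma isPullback_secBC (h : IsPullback q p' p g) (s : T ⟶ W) (hs : s ≫ p = 𝟙 T) :
    IsPullback g (secBC h (g ≫ s) (by simp [hs])) s q := by
  refine IsPullback.of_bot (v₂₁ := p') (v₂₂ := p) (h₃₁ := g) ?_ (secBC_fst _ _ _).symm h
  rw [secBC_snd, hs]
  exact IsPullback.of_vert_isIso ⟨by simp⟩

lemma comap_ker_section [IsSeparated p] (h : IsPullback q p' p g) (s : T ⟶ W) (hs : s ≫ p = 𝟙 T) :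
    s.ker.comap q = (secBC h (g ≫ s) (by simp [hs])).ker := by
  have := isClosedImmersion_of_section s hs
  exact (ker_eq_comap_of_isPullback (isPullback_secBC h s hs)).symm

lemma isFinLocFreeOfDeg_ker_section (s : T ⟶ W) (p : W ⟶ T) [IsSeparated p] (hs : s ≫ p = 𝟙 T) :
    Mor2.IsFinLocFreeOfDeg 1 (s.ker.subschemeι ≫ p) := by
  have := isClosedImmersion_of_section s hs
  obtain ⟨e, he, h⟩ := exists_iso_ker_subscheme s
  rw [← h, Category.assoc, hs, Category.comp_id]
  refine ⟨⟨inferInstance, inferInstance, inferInstance⟩, fun y => ?_⟩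
  rw [Scheme.Hom.finrank_eq_one_of_isIso]
  rfl

lemma isFinLocFreeOfDeg_comap {m : ℕ} (h : IsPullback q p' p g) (I : W.IdealSheafData)
    (hI : Mor2.IsFinLocFreeOfDeg m (I.subschemeι ≫ p)) :
    Mor2.IsFinLocFreeOfDeg m ((I.comap q).subschemeι ≫ p') := by
  obtain ⟨r, hr⟩ := exists_isPullback_comap q I
  exact isFinLocFreeOfDeg_of_isPullback (hr.paste_vert h) hI

end Sections

theorem exists_split (m : ℕ) {W T : Scheme.{u}} (p : W ⟶ T) [SmoothOfRelativeDimension 1 p]
    [IsSeparated p] (I : W.IdealSheafData) (hI : Mor2.IsFinLocFreeOfDeg m (I.subschemeι ≫ p)) :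
    ∃ (T' : Scheme.{u}) (g : T' ⟶ T), Mor2.IsFinLocFree g ∧ Surjective g ∧
      ∃ (s : Fin m → (T' ⟶ W)) (hs : ∀ l, s l ≫ p = g),
        ∀ {W' : Scheme.{u}} (q : W' ⟶ W) (p' : W' ⟶ T') (h : IsPullback q p' p g),
          I.comap q = ∏ l, (secBC h (s l) (hs l)).ker := by
  induction m generalizing W T with
  | zero =>
    have hempty : IsEmpty I.subscheme :=
      Picfga.HilbZero.isEmpty_of_isFinLocFreeOfDeg_zero _ hI
    have hI' : I = ⊤ := by
      rw [← I.ker_subschemeι, Scheme.Hom.ker_eq_top_iff_isEmpty]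
      exact hempty
    refine ⟨T, 𝟙 T, ⟨inferInstance, inferInstance, inferInstance⟩, inferInstance, Fin.elim0,
      fun l => l.elim0, ?_⟩
    intro W' q p' h
    rw [hI', comap_top']
    simp
  | succ m ih =>
    let T₁ := I.subscheme
    let g₁ : T₁ ⟶ T := I.subschemeι ≫ p
    have hsurj : Surjective g₁ :=
      Picfga.HilbZero.surjective_of_isFinLocFreeOfDeg _ (Nat.le_add_left 1 m) hI
    let W₁ := pullback p g₁
    let p₁ : W₁ ⟶ T₁ := pullback.snd p g₁
    let q₁ : W₁ ⟶ W := pullback.fst p g₁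
    have h₁ : IsPullback q₁ p₁ p g₁ := IsPullback.of_hasPullback _ _
    have := smoothOfRelativeDimension_isStableUnderBaseChange.{u} 1
    have : SmoothOfRelativeDimension 1 p₁ :=
      MorphismProperty.pullback_snd (P := @SmoothOfRelativeDimension 1) p g₁ ‹_›
    let σ : T₁ ⟶ W₁ := secBC h₁ I.subschemeι rfl
    have hσ : σ ≫ p₁ = 𝟙 T₁ := secBC_snd _ _ _
    have hσc : IsClosedImmersion σ := isClosedImmersion_of_section σ hσ
    have hle : I.comap q₁ ≤ σ.ker := by
      rw [le_ker_iff, ← Scheme.IdealSheafData.comap_comp]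
      have : σ ≫ q₁ = I.subschemeι := secBC_fst _ _ _
      rw [this]
      exact comap_self I
    obtain ⟨J, hJ, hIJ⟩ := Groth.Agent.S1172.result p₁ σ.ker (I.comap q₁) hle 1 (m + 1)
      (isFinLocFreeOfDeg_ker_section σ p₁ hσ) (isFinLocFreeOfDeg_comap h₁ I hI)
    rw [Nat.add_sub_cancel] at hJ
    obtain ⟨T', g', hg', hg's, s, hs, hprod⟩ := ih p₁ J hJ
    refine ⟨T', g' ≫ g₁, ?_, inferInstance, Fin.cons (g' ≫ I.subschemeι) (fun l => s l ≫ q₁), ?_, ?_⟩
    · obtain ⟨a1, a2, a3⟩ := hg'
      obtain ⟨b1, b2, b3⟩ := hI.1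
      exact ⟨inferInstanceAs (IsFinite (g' ≫ I.subschemeι ≫ p)),
        inferInstanceAs (Flat (g' ≫ I.subschemeι ≫ p)),
        inferInstanceAs (LocallyOfFinitePresentation (g' ≫ I.subschemeι ≫ p))⟩
    · intro l
      refine Fin.cases ?_ (fun l => ?_) l
      · simp [g₁]
      · simp only [Fin.cons_succ, Category.assoc, h₁.w]
        rw [← Category.assoc, hs l]
    · intro W' q p' h
      let r : W' ⟶ W₁ := h₁.lift q (p' ≫ g') (by rw [h.w, Category.assoc])
      have hr : r ≫ q₁ = q := h₁.lift_fst _ _ _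
      have hr' : r ≫ p₁ = p' ≫ g' := h₁.lift_snd _ _ _
      have h' : IsPullback r p' p₁ g' := by
        refine IsPullback.of_right ?_ hr' h₁
        rw [hr]
        exact h
      have e : I.comap q = (I.comap q₁).comap r := by
        rw [← Scheme.IdealSheafData.comap_comp, hr]
      rw [e, hIJ, comap_mul, hprod r p' h', Fin.prod_univ_succ, comap_ker_section h' σ hσ]
      refine congrArg₂ (· * ·) (congrArg Scheme.Hom.ker (secBC_unique _ _ _ _ ?_ (secBC_snd _ _ _)))
        (Finset.prod_congr rfl fun l _ =>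
          congrArg Scheme.Hom.ker (secBC_unique _ _ _ _ ?_ (secBC_snd _ _ _)))
      · rw [← hr, secBC_fst_assoc]
        simp only [σ, Fin.cons_zero, Category.assoc]
        rw [secBC_fst]
      · rw [← hr, secBC_fst_assoc]
        simp

end Groth.Agent.Etdl.H157.Split
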